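import Cfsg.Agent.Lib.PSp4Local4.Model

/-!
# Groups of additive permutations with the stabilisers of the local configuration

`J` acts on `V`, contains the upper unipotents and the torus, the stabiliser of every non-zero point
of the first line is exactly that Borel part, and `p^(n+1)` does not divide its order.
-/

set_option autoImplicit false
set_option linter.unusedSectionVars false
set_option linter.style.haveILetI false

namespace Cfsg.Agent.Lib.PSp4Local4

open scoped Pointwise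

universe u

variable {F : Type u} [Field F]

theorem inv_app {α : Type u} (f : Equiv.Perm α) (x : α) : f⁻¹ (f x) = x := f.symm_apply_apply x

theorem app_inv {α : Type u} (f : Equiv.Perm α) (x : α) : f (f⁻¹ x) = x := f.apply_symm_apply x

/-- The first line. -/
def Zl (F : Type u) [Field F] : Set (V F) := {v | v.2.1 = 0 ∧ v.2.2 = 0}

/-- The fixed space of the reflection. -/
def Yl (F : Type u) [Field F] : Set (V F) := {v | v.2.1 = 0}

/-- The negated space of the reflection. -/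
def Xl (F : Type u) [Field F] : Set (V F) := {v | v.1 = 0 ∧ v.2.2 = 0}

/-- The hypotheses. -/
structure Hyp (p n : ℕ) (J : Subgroup (Equiv.Perm (V F))) : Prop where
  prime : p.Prime
  odd : p ≠ 2
  card : Nat.card F = p ^ n
  mod_four : Nat.card F % 4 = 3
  add : ∀ j ∈ J, ∀ v w : V F, j (v + w) = j v + j w
  hU : ∀ r, U r ∈ J
  hD : ∀ a, D a ∈ J
  stab : ∀ j ∈ J, ∀ z : F, z ≠ 0 → j (z, 0, 0) = (z, 0, 0) → ∃ r a, j = U r * D a
  pp : ¬ p ^ (n + 1) ∣ Nat.card J

namespace Hyp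

variable {p n : ℕ} {J : Subgroup (Equiv.Perm (V F))} (H : Hyp p n J)
include H

theorem finite : Finite F :=
  Nat.finite_of_card_ne_zero (by rw [H.card]; exact pow_ne_zero _ H.prime.ne_zero)

theorem n_ne_zero : n ≠ 0 := by
  rintro rfl
  have := H.mod_four
  rw [H.card, pow_zero] at this
  omega

theorem charP : CharP F p := by
  haveI := H.finite
  haveI := Fintype.ofFinite F
  haveI : Fact p.Prime := ⟨H.prime⟩
  exact charP_of_card_eq_prime_pow (by rw [← Nat.card_eq_fintype_card, H.card])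

theorem two_ne : (2 : F) ≠ 0 := by
  haveI := H.charP
  intro h
  have h' : ((2 : ℕ) : F) = 0 := by exact_mod_cast h
  rw [CharP.cast_eq_zero_iff F p] at h'
  exact H.odd ((Nat.prime_dvd_prime_iff_eq H.prime Nat.prime_two).1 h')

theorem four_ne : (4 : F) ≠ 0 := by
  have : (4 : F) = 2 * 2 := by norm_num
  rw [this]; exact mul_ne_zero H.two_ne H.two_ne

theorem map_zero {j : Equiv.Perm (V F)} (hj : j ∈ J) : j 0 = 0 := by
  have h := H.add j hj 0 0
  rw [add_zero] at h
  exact left_eq_add.1 h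

theorem map_neg {j : Equiv.Perm (V F)} (hj : j ∈ J) (v : V F) : j (-v) = -j v := by
  refine eq_neg_of_add_eq_zero_left ?_
  rw [← H.add j hj, neg_add_cancel, H.map_zero hj]

theorem map_sub {j : Equiv.Perm (V F)} (hj : j ∈ J) (v w : V F) : j (v - w) = j v - j w := by
  rw [sub_eq_add_neg, H.add j hj, H.map_neg hj, ← sub_eq_add_neg]

theorem S_mem : S F ∈ J := H.hD _

theorem fix_U {r : F} (hr : r ≠ 0) {v : V F} (h : U r v = v) : v ∈ Zl F := by
  obtain ⟨z, x, y⟩ := v
  simp only [U_apply, Prod.mk.injEq, add_eq_left, mul_eq_zero, hr, false_or, and_true] at h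
  obtain ⟨h1, hy⟩ := h
  rw [hy, mul_zero, add_zero] at h1
  have : x = 0 := by
    have h' : (2 * r) * x = 0 := by linear_combination h1
    exact (mul_eq_zero.1 h').resolve_left (mul_ne_zero H.two_ne hr)
  exact ⟨this, hy⟩

omit H in
theorem U_fix (r : F) {v : V F} (hv : v ∈ Zl F) : U r v = v := by
  obtain ⟨z, x, y⟩ := v
  obtain ⟨rfl, rfl⟩ := hv
  simp [U_apply]

omit H in
theorem D_fix (a : Fˣ) {v : V F} (hv : v ∈ Zl F) : D a v = v := by
  obtain ⟨z, x, y⟩ := v
  obtain ⟨rfl, rfl⟩ := hv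
  simp [D_apply]

omit H in
theorem UD_fix (r : F) (a : Fˣ) {v : V F} (hv : v ∈ Zl F) : (U r * D a) v = v := by
  rw [Equiv.Perm.mul_apply, D_fix a hv, U_fix r hv]

omit H in
theorem UD_inj {r r' : F} {a a' : Fˣ} (h2 : (2 : F) ≠ 0) (h : U r * D a = U r' * D a') :
    r = r' ∧ a = a' := by
  have e1 := congrArg (fun f : Equiv.Perm (V F) => f (0, 1, 0)) h
  simp only [Equiv.Perm.mul_apply, D_apply, U_apply, mul_zero, mul_one, add_zero, zero_add,
    Prod.mk.injEq, and_true] at e1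
  obtain ⟨e, ea⟩ := e1
  refine ⟨?_, Units.ext ea⟩
  rw [← ea] at e
  have : (2 * (a : F)) * (r - r') = 0 := by linear_combination e
  exact sub_eq_zero.1 ((mul_eq_zero.1 this).resolve_left (mul_ne_zero h2 a.ne_zero))

omit H in
theorem UD_pow (r : F) (a : Fˣ) (k : ℕ) : ∃ s, (U r * D a) ^ k = U s * D (a ^ k) := by
  induction k with
  | zero => exact ⟨0, by simp [U_zero, D_one]⟩
  | succ k ih =>
    obtain ⟨s, hs⟩ := ih
    refine ⟨s + r / ((a : F) ^ k), ?_⟩
    rw [pow_succ, hs, mul_assoc, ← mul_assoc (D (a ^ k)), D_mul_U, mul_assoc, D_mul, ← mul_assoc,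
      U_mul, pow_succ]
    simp

/-- Elements fixing the first line and of order dividing `p` are upper unipotent. -/
theorem eq_U_of_pow {j : Equiv.Perm (V F)} (hj : j ∈ J)
    (hfix : j (1, 0, 0) = (1, 0, 0)) (hp : j ^ p = 1) : ∃ r, j = U r := by
  haveI := H.charP
  haveI : Fact p.Prime := ⟨H.prime⟩
  obtain ⟨r, a, rfl⟩ := H.stab j hj 1 one_ne_zero hfix
  obtain ⟨s, hs⟩ := UD_pow r a p
  rw [hs] at hp
  obtain ⟨-, ha⟩ := UD_inj H.two_ne (hp.trans (show (1 : Equiv.Perm (V F)) = U 0 * D 1 by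
    rw [U_zero, D_one, one_mul]))
  have : ((a : F) - 1) ^ p = 0 := by
    rw [sub_pow_char, one_pow, ← Units.val_pow_eq_pow_val, ha, Units.val_one, sub_self]
  have : a = 1 := Units.ext (sub_eq_zero.1 (pow_eq_zero_iff H.prime.ne_zero |>.1 this))
  exact ⟨r, by rw [this, D_one, mul_one]⟩

/-- An involution fixing a point of the first line is a conjugate of the reflection. -/
theorem invol_fix {h : Equiv.Perm (V F)} (hh : h ∈ J) (h2 : h * h = 1) (hne : h ≠ 1) {z : F}
    (hz : z ≠ 0) (hfix : h (z, 0, 0) = (z, 0, 0)) :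
    ∃ c, h = U (2 * c) * S F ∧ h = U c * S F * U (-c) := by
  obtain ⟨r, a, rfl⟩ := H.stab h hh z hz hfix
  obtain ⟨s, hs⟩ := UD_pow r a 2
  rw [← pow_two, hs] at h2
  obtain ⟨-, ha⟩ := UD_inj H.two_ne (h2.trans (show (1 : Equiv.Perm (V F)) = U 0 * D 1 by
    rw [U_zero, D_one, one_mul]))
  have ha' : (a : F) ^ 2 = 1 := by rw [← Units.val_pow_eq_pow_val, ha, Units.val_one]
  rcases sq_eq_one_iff.1 ha' with h1 | h1
  · exfalso
    have ha1 : a = 1 := Units.ext h1
    subst ha1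
    rw [D_one, mul_one] at hs hne
    rw [pow_two, U_mul, one_pow, D_one, mul_one] at hs
    rw [one_pow, D_one, mul_one] at h2
    rw [← hs] at h2
    have e := congrArg (fun f : Equiv.Perm (V F) => f (0, 0, 1)) h2
    simp only [U_apply, Equiv.Perm.coe_one, id_eq, Prod.mk.injEq, mul_one, zero_add, and_true] at e
    have : (2 : F) * r = 0 := by linear_combination e.2
    exact hne (by rw [(mul_eq_zero.1 this).resolve_left H.two_ne, U_zero])
  · have ha1 : a = -1 := Units.ext (by simpa using h1)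
    subst ha1
    haveI : NeZero (2 : F) := ⟨H.two_ne⟩
    refine ⟨r / 2, ?_, ?_⟩
    · rw [mul_div_cancel₀ r H.two_ne]; rfl
    · rw [mul_assoc, S_mul_U, neg_neg, ← mul_assoc, U_mul, add_halves]; rfl

/-- An element taking a non-zero point of the first line into it preserves it. -/
theorem maps_Zl [Finite F] {g : Equiv.Perm (V F)} (hg : g ∈ J) {v : V F} (hv : v ∈ Zl F) (hv0 : v ≠ 0)
    (hgv : g v ∈ Zl F) : g '' Zl F = Zl F := by
  obtain ⟨z, x, y⟩ := v
  obtain ⟨rfl, rfl⟩ := hv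
  have hz : z ≠ 0 := fun h => hv0 (by rw [h]; rfl)
  have hk : (g⁻¹ * U (1 : F) * g) (z, 0, 0) = (z, 0, 0) := by
    rw [Equiv.Perm.mul_apply, Equiv.Perm.mul_apply, U_fix 1 hgv, inv_app]
  obtain ⟨r, a, hra⟩ := H.stab _ (J.mul_mem (J.mul_mem (J.inv_mem hg) (H.hU 1)) hg) z hz hk
  have hsub : g '' Zl F ⊆ Zl F := by
    rintro _ ⟨w, hw, rfl⟩
    refine H.fix_U one_ne_zero ?_
    have : (g⁻¹ * U (1 : F) * g) w = w := by rw [hra]; exact UD_fix r a hw
    rw [Equiv.Perm.mul_apply, Equiv.Perm.mul_apply, Equiv.Perm.inv_eq_iff_eq] at this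
    exact this
  exact Set.eq_of_subset_of_ncard_le hsub (by rw [Set.ncard_image_of_injective _ g.injective])
    (Set.toFinite _)

theorem apply_mem_Zl [Finite F] {g : Equiv.Perm (V F)} (h : g '' Zl F = Zl F) {v : V F}
    (hv : v ∈ Zl F) : g v ∈ Zl F := h ▸ ⟨v, hv, rfl⟩

/-- The stabiliser of the first line normalises the upper unipotents. -/
theorem conj_U [Finite F] {g : Equiv.Perm (V F)} (hg : g ∈ J) (hgZ : g '' Zl F = Zl F) (r : F) :
    ∃ s, g * U r = U s * g := by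
  have hfix : (g * U r * g⁻¹) (1, 0, 0) = (1, 0, 0) := by
    have h1 : ((1, 0, 0) : V F) ∈ g '' Zl F := by rw [hgZ]; exact ⟨rfl, rfl⟩
    obtain ⟨w, hw, he⟩ := h1
    rw [← he, Equiv.Perm.mul_apply, Equiv.Perm.mul_apply, inv_app, U_fix r hw]
  have hpow : (g * U r * g⁻¹) ^ p = 1 := by
    rw [conj_pow]
    have hk : ∀ k : ℕ, U r ^ k = U (k * r) := by
      intro k
      induction k with
      | zero => simp [U_zero]
      | succ k ih => rw [pow_succ, ih, U_mul]; push_cast; ring_nf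
    haveI := H.charP
    rw [hk, CharP.cast_eq_zero, zero_mul, U_zero, mul_one, mul_inv_cancel]
  obtain ⟨s, hs⟩ := H.eq_U_of_pow (J.mul_mem (J.mul_mem hg (H.hU r)) (J.inv_mem hg)) hfix hpow
  exact ⟨s, by rw [← hs, inv_mul_cancel_right]⟩

omit H in
theorem card_Zl : (Zl F).ncard = Nat.card F := by
  rw [← Nat.card_coe_set_eq]
  exact Nat.card_congr
    { toFun := fun v => v.1.1
      invFun := fun z => ⟨(z, 0, 0), rfl, rfl⟩
      left_inv := fun ⟨⟨z, x, y⟩, h1, h2⟩ => by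
        simp only at h1 h2; subst h1 h2; rfl
      right_inv := fun z => rfl }

omit H in
theorem card_Xl : (Xl F).ncard = Nat.card F := by
  rw [← Nat.card_coe_set_eq]
  exact Nat.card_congr
    { toFun := fun v => v.1.2.1
      invFun := fun x => ⟨(0, x, 0), rfl, rfl⟩
      left_inv := fun ⟨⟨z, x, y⟩, h1, h2⟩ => by
        simp only at h1 h2; subst h1 h2; rfl
      right_inv := fun z => rfl }

/-- A conjugate of the reflection negating a point of the first line negates exactly that line. -/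
theorem neg_line [Finite F] {g : Equiv.Perm (V F)} (hg : g ∈ J) {v : V F} (hv : v ∈ Zl F) (hv0 : v ≠ 0)
    (hneg : (g⁻¹ * S F * g) v = -v) : g '' Zl F = Xl F := by
  have hhJ : g⁻¹ * S F * g ∈ J := J.mul_mem (J.mul_mem (J.inv_mem hg) H.S_mem) hg
  have hpres : (g⁻¹ * S F * g) '' Zl F = Zl F := H.maps_Zl hhJ hv hv0 (by
    rw [hneg]; exact ⟨by simp [hv.1], by simp [hv.2]⟩)
  have h2 : ∀ w, (g⁻¹ * S F * g) ((g⁻¹ * S F * g) w) = w := fun w => by
    simp only [Equiv.Perm.mul_apply, app_inv]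
    rw [← Equiv.Perm.mul_apply (S F) (S F), S_mul_self, Equiv.Perm.one_apply,
      inv_app]
  have hsub : g '' Zl F ⊆ Xl F := by
    rintro _ ⟨w, hw, rfl⟩
    have hs : w + (g⁻¹ * S F * g) w ∈ Zl F := by
      have h1 := H.apply_mem_Zl hpres hw
      exact ⟨by rw [Prod.snd_add, Prod.fst_add, hw.1, h1.1, add_zero],
        by rw [Prod.snd_add, Prod.snd_add, hw.2, h1.2, add_zero]⟩
    have hwneg : (g⁻¹ * S F * g) w = -w := by
      by_contra hne
      set u := w + (g⁻¹ * S F * g) w with hu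
      obtain ⟨u1, u2, u3⟩ := u
      obtain ⟨rfl, rfl⟩ := hs
      have hu0 : u1 ≠ 0 := fun h0 => hne (eq_neg_of_add_eq_zero_right (by rw [← hu, h0]; rfl))
      obtain ⟨c, d, hc⟩ := H.stab _ hhJ u1 hu0 (by
        rw [hu, H.add _ hhJ, h2, add_comm])
      rw [hc, UD_fix _ _ hv] at hneg
      obtain ⟨v1, v2, v3⟩ := v
      obtain ⟨rfl, rfl⟩ := hv
      simp only [Prod.neg_mk, Prod.mk.injEq] at hneg
      have : (2 : F) * v1 = 0 := by linear_combination hneg.1
      exact hv0 (by rw [(mul_eq_zero.1 this).resolve_left H.two_ne]; rfl)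
    have hS : S F (g w) = -g w := by
      have := congrArg g hwneg
      rwa [Equiv.Perm.mul_apply, Equiv.Perm.mul_apply, app_inv,
        H.map_neg hg] at this
    obtain ⟨a, b, c, hgw⟩ : ∃ a b c, g w = (a, b, c) := ⟨_, _, _, rfl⟩
    rw [hgw, S_apply] at hS
    rw [hgw]
    simp only [Prod.neg_mk, Prod.mk.injEq] at hS
    exact ⟨(mul_eq_zero.1 (show (2 : F) * a = 0 by linear_combination hS.1)).resolve_left H.two_ne,
      (mul_eq_zero.1 (show (2 : F) * c = 0 by linear_combination hS.2.2)).resolve_left H.two_ne⟩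
  exact Set.eq_of_subset_of_ncard_le hsub
    (by rw [Set.ncard_image_of_injective _ g.injective, card_Zl, card_Xl]) (Set.toFinite _)

/-- Such a conjugate normalises no non-trivial upper unipotent. -/
theorem no_normal [Finite F] {g : Equiv.Perm (V F)} (hg : g ∈ J) {v : V F} (hv : v ∈ Zl F) (hv0 : v ≠ 0)
    (hneg : (g⁻¹ * S F * g) v = -v) {r s : F}
    (hc : g⁻¹ * S F * g * U r = U s * (g⁻¹ * S F * g)) : r = 0 := by
  have hX := H.neg_line hg hv hv0 hneg
  have hhJ : g⁻¹ * S F * g ∈ J := J.mul_mem (J.mul_mem (J.inv_mem hg) H.S_mem) hg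
  set h := g⁻¹ * S F * g with hh
  have hmod : ∀ w, h w - w ∈ Zl F := by
    intro w
    have : g (h w - w) ∈ Xl F := by
      rw [H.map_sub hg, hh, Equiv.Perm.mul_apply, Equiv.Perm.mul_apply, app_inv]
      obtain ⟨a, b, c⟩ := g w
      simp [S_apply, Xl]
    rw [← hX] at this
    exact (Function.Injective.mem_set_image g.injective).1 this
  have hline : ∀ z : F, h (z, 0, 0) = (-z, 0, 0) := by
    intro z
    have hz : ((z, 0, 0) : V F) ∈ Zl F := ⟨rfl, rfl⟩
    have h1 : g (z, 0, 0) ∈ Xl F := hX ▸ ⟨_, hz, rfl⟩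
    rw [hh, Equiv.Perm.mul_apply, Equiv.Perm.mul_apply, Equiv.Perm.inv_eq_iff_eq]
    have e : ((-z, 0, 0) : V F) = -(z, 0, 0) := by simp
    rw [e, H.map_neg hg]
    obtain ⟨a, b, c, hgz⟩ : ∃ a b c, g (z, 0, 0) = (a, b, c) := ⟨_, _, _, rfl⟩
    rw [hgz] at h1 ⊢
    obtain ⟨rfl, rfl⟩ := h1
    simp [S_apply]
  have e3 := congrArg (fun f : Equiv.Perm (V F) => f (0, 0, 1)) hc
  have e2 := congrArg (fun f : Equiv.Perm (V F) => f (0, 1, 0)) hc
  simp only [Equiv.Perm.mul_apply, U_apply, mul_zero, mul_one, add_zero, zero_add] at e2 e3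
  obtain ⟨a, b, c, hw⟩ : ∃ a b c, h (0, 0, 1) = (a, b, c) := ⟨_, _, _, rfl⟩
  obtain ⟨a', b', c', hw'⟩ : ∃ a b c, h (0, 1, 0) = (a, b, c) := ⟨_, _, _, rfl⟩
  have m := hmod (0, 0, 1)
  have m' := hmod (0, 1, 0)
  rw [hw] at e3 m
  rw [hw'] at e2 m'
  simp only [Zl, Set.mem_ofPred_eq, Prod.mk_sub_mk, sub_zero, sub_eq_zero] at m m'
  obtain ⟨rfl, rfl⟩ := m
  obtain ⟨rfl, rfl⟩ := m'
  have hsr : s = r := by
    have m := hmod (r ^ 2, r, 1)
    rw [e3, U_apply] at m
    simp only [Zl, Set.mem_ofPred_eq, Prod.mk_sub_mk, sub_zero, sub_eq_zero] at m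
    linear_combination m.1
  rw [hsr] at e2
  have e : ((2 * r, 1, 0) : V F) = (2 * r, 0, 0) + (0, 1, 0) := by simp
  rw [e, H.add h hhJ, hline, hw', U_apply] at e2
  simp only [Prod.mk_add_mk, Prod.mk.injEq] at e2
  have : (4 : F) * r = 0 := by linear_combination -e2.1
  exact (mul_eq_zero.1 this).resolve_left H.four_ne

/-- No translate of the first line meets the plane `y = 0` outside the line. -/
theorem x_eq_zero [Finite F] {g : Equiv.Perm (V F)} (hg : g ∈ J) {v : V F} (hv : v ∈ g '' Zl F)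
    (hy : v.2.2 = 0) : v.2.1 = 0 := by
  obtain ⟨z, x, y⟩ := v
  simp only at hy ⊢
  subst hy
  by_contra hx
  obtain ⟨w, hw, he⟩ := hv
  set t := -z / (2 * x) with ht
  have hg' : U t * g ∈ J := J.mul_mem (H.hU t) hg
  have he' : (U t * g) w = (0, x, 0) := by
    rw [Equiv.Perm.mul_apply, he, U_apply]
    simp only [Prod.mk.injEq, mul_zero, add_zero, and_true]
    rw [ht]
    field_simp [H.two_ne]
    ring
  have hw0 : w ≠ 0 := by
    rintro rfl
    rw [H.map_zero hg'] at he'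
    exact hx (congrArg (fun v : V F => v.2.1) he').symm
  have hneg : ((U t * g)⁻¹ * S F * (U t * g)) w = -w := by
    rw [Equiv.Perm.mul_apply, Equiv.Perm.mul_apply, he', S_apply, Equiv.Perm.inv_eq_iff_eq,
      H.map_neg hg', he']
    simp
  have hpres := H.maps_Zl (g := (U t * g)⁻¹ * S F * (U t * g))
    (J.mul_mem (J.mul_mem (J.inv_mem hg') H.S_mem) hg') hw hw0
    (by rw [hneg]; exact ⟨by simp [hw.1], by simp [hw.2]⟩)
  obtain ⟨s, hs⟩ := H.conj_U (J.mul_mem (J.mul_mem (J.inv_mem hg') H.S_mem) hg') hpres 1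
  exact one_ne_zero (H.no_normal hg' hw hw0 hneg hs)

/-- The reflection fixes pointwise every translate through a point it fixes. -/
theorem subset_Yl [Finite F] {g : Equiv.Perm (V F)} (hg : g ∈ J) {v : V F} (hv : v ∈ g '' Zl F)
    (hv0 : v ≠ 0) (hvY : v ∈ Yl F) : g '' Zl F ⊆ Yl F := by
  obtain ⟨w, hw, rfl⟩ := hv
  obtain ⟨z, x, y⟩ := w
  obtain ⟨rfl, rfl⟩ := hw
  have hz : z ≠ 0 := by
    rintro rfl
    exact hv0 (H.map_zero hg)
  have hfix : (g⁻¹ * S F * g) (z, 0, 0) = (z, 0, 0) := by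
    rw [Equiv.Perm.mul_apply, Equiv.Perm.mul_apply, Equiv.Perm.inv_eq_iff_eq]
    obtain ⟨a, b, c, hgz⟩ : ∃ a b c, g (z, 0, 0) = (a, b, c) := ⟨_, _, _, rfl⟩
    rw [hgz] at hvY ⊢
    simp only [Yl, Set.mem_ofPred_eq] at hvY
    subst hvY
    simp [S_apply]
  obtain ⟨r, a, hra⟩ := H.stab _ (J.mul_mem (J.mul_mem (J.inv_mem hg) H.S_mem) hg) z hz hfix
  rintro _ ⟨u, hu, rfl⟩
  have : (g⁻¹ * S F * g) u = u := by rw [hra]; exact UD_fix r a hu
  rw [Equiv.Perm.mul_apply, Equiv.Perm.mul_apply, Equiv.Perm.inv_eq_iff_eq] at this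
  obtain ⟨a', b', c', hgu⟩ : ∃ a b c, g u = (a, b, c) := ⟨_, _, _, rfl⟩
  rw [hgu] at this ⊢
  simp only [S_apply, Prod.mk.injEq] at this
  exact (mul_eq_zero.1 (show (2 : F) * b' = 0 by linear_combination -this.2.1)).resolve_left
    H.two_ne

end Hyp

end Cfsg.Agent.Lib.PSp4Local4
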