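import Cfsg.Agent.Lib.PSp4Local4.Basic

/-!
# Counting the translates of the first line

Exactly two translates of the first line lie in the fixed space of the reflection.
-/

set_option autoImplicit false
set_option linter.unusedSectionVars false
set_option linter.style.haveILetI false

namespace Cfsg.Agent.Lib.PSp4Local4

open scoped Pointwise

universe u

variable {F : Type u} [Field F]

/-- The graph `z = c y` inside the fixed space of the reflection. -/
def Gr (c : F) : Set (V F) := {v | v.1 = c * v.2.2 ∧ v.2.1 = 0}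

/-- Translates of the first line. -/
def Tr (J : Subgroup (Equiv.Perm (V F))) : Set (Set (V F)) :=
  {T | ∃ g ∈ J, (g : V F → V F) '' Zl F = T}

/-- Translates inside the fixed space of the reflection. -/
def T0 (J : Subgroup (Equiv.Perm (V F))) : Set (Set (V F)) := {T | T ∈ Tr J ∧ T ⊆ Yl F}

theorem image_mul (g h : Equiv.Perm (V F)) (T : Set (V F)) : (g * h) '' T = g '' (h '' T) := by
  rw [Equiv.Perm.coe_mul, Set.image_comp]

theorem image_U_Zl (r : F) : U r '' Zl F = Zl F := by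
  ext v
  refine ⟨?_, fun hv => ⟨v, hv, Hyp.U_fix r hv⟩⟩
  rintro ⟨w, hw, rfl⟩
  rwa [Hyp.U_fix r hw]

namespace Hyp

variable {p n : ℕ} {J : Subgroup (Equiv.Perm (V F))} (H : Hyp p n J)
include H

theorem zl_mem_Tr : Zl F ∈ Tr J := ⟨1, J.one_mem, by simp⟩

theorem zl_mem_T0 : Zl F ∈ T0 J := ⟨H.zl_mem_Tr, fun _ hv => hv.1⟩

theorem tr_image {T : Set (V F)} (hT : T ∈ Tr J) {g : Equiv.Perm (V F)} (hg : g ∈ J) :
    g '' T ∈ Tr J := by
  obtain ⟨k, hk, rfl⟩ := hT
  exact ⟨g * k, J.mul_mem hg hk, image_mul g k _⟩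

theorem tr_zero {T : Set (V F)} (hT : T ∈ Tr J) : (0 : V F) ∈ T := by
  obtain ⟨k, hk, rfl⟩ := hT
  exact ⟨0, ⟨rfl, rfl⟩, H.map_zero hk⟩

theorem tr_sub {T : Set (V F)} (hT : T ∈ Tr J) {v w : V F} (hv : v ∈ T) (hw : w ∈ T) :
    v - w ∈ T := by
  obtain ⟨k, hk, rfl⟩ := hT
  obtain ⟨a, ha, rfl⟩ := hv
  obtain ⟨b, hb, rfl⟩ := hw
  refine ⟨a - b, ⟨?_, ?_⟩, H.map_sub hk a b⟩
  · rw [Prod.snd_sub, Prod.fst_sub, ha.1, hb.1, sub_zero]
  · rw [Prod.snd_sub, Prod.snd_sub, ha.2, hb.2, sub_zero]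

theorem tr_card {T : Set (V F)} (hT : T ∈ Tr J) : T.ncard = Nat.card F := by
  obtain ⟨k, hk, rfl⟩ := hT
  rw [Set.ncard_image_of_injective _ k.injective, card_Zl]

theorem tr_eq [Finite F] {T T' : Set (V F)} (hT : T ∈ Tr J) (hT' : T' ∈ Tr J) {v : V F}
    (h1 : v ∈ T) (h2 : v ∈ T') (hv : v ≠ 0) : T = T' := by
  obtain ⟨g, hg, rfl⟩ := hT
  obtain ⟨g', hg', rfl⟩ := hT'
  obtain ⟨w, hw, rfl⟩ := h1
  obtain ⟨w', hw', he⟩ := h2
  have hw0 : w' ≠ 0 := fun h => hv (by rw [← he, h, H.map_zero hg'])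
  have h := H.maps_Zl (J.mul_mem (J.inv_mem hg) hg') hw' hw0
    (by rw [Equiv.Perm.mul_apply, he, inv_app]; exact hw)
  rw [show g' = g * (g⁻¹ * g') by group, image_mul, h]

theorem y_ne [Finite F] {T : Set (V F)} (hT : T ∈ Tr J) (hne : T ≠ Zl F) {v : V F} (hv : v ∈ T)
    (hv0 : v ≠ 0) : v.2.2 ≠ 0 := by
  intro hy
  have hT' := hT
  obtain ⟨g, hg, rfl⟩ := hT
  exact hne (H.tr_eq hT' H.zl_mem_Tr hv ⟨H.x_eq_zero hg hv hy, hy⟩ hv0)

theorem y_inj [Finite F] {T : Set (V F)} (hT : T ∈ Tr J) (hne : T ≠ Zl F) {v w : V F}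
    (hv : v ∈ T) (hw : w ∈ T) (h : v.2.2 = w.2.2) : v = w := by
  by_contra hvw
  exact H.y_ne hT hne (H.tr_sub hT hv hw) (sub_ne_zero.2 hvw)
    (by rw [Prod.snd_sub, Prod.snd_sub, h, sub_self])

theorem y_surj [Finite F] {T : Set (V F)} (hT : T ∈ Tr J) (hne : T ≠ Zl F) (y : F) :
    ∃ v ∈ T, v.2.2 = y := by
  have hb : Function.Bijective (fun v : T => (v : V F).2.2) :=
    Function.Injective.bijective_of_nat_card_le
      (fun v w h => Subtype.ext (H.y_inj hT hne v.2 w.2 h))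
      (by rw [Nat.card_coe_set_eq, H.tr_card hT])
  obtain ⟨v, hv⟩ := hb.2 y
  exact ⟨v, v.2, hv⟩

theorem exists_U_T0 [Finite F] {T : Set (V F)} (hT : T ∈ Tr J) (hne : T ≠ Zl F) :
    ∃ r, U r '' T ∈ T0 J ∧ U r '' T ≠ Zl F := by
  obtain ⟨v, hv, hy⟩ := H.y_surj hT hne 1
  obtain ⟨z, x, y⟩ := v
  simp only at hy
  subst hy
  refine ⟨-x, ⟨H.tr_image hT (H.hU _), ?_⟩, ?_⟩
  · obtain ⟨g, hg, rfl⟩ := hT
    rw [← image_mul]
    refine H.subset_Yl (J.mul_mem (H.hU _) hg) (v := U (-x) (z, x, 1))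
      (by rw [image_mul]; exact ⟨_, hv, rfl⟩) ?_ (by simp [Yl, U_apply])
    intro h
    have := congrArg (fun v : V F => v.2.2) h
    simp [U_apply] at this
  · intro h
    have hm : U (-x) (z, x, (1 : F)) ∈ Zl F := h ▸ ⟨_, hv, rfl⟩
    have := hm.2
    simp [U_apply] at this

theorem card_Tr [Finite F] : (Tr J).ncard + Nat.card F = 1 + Nat.card F * (T0 J).ncard := by
  classical
  have hzl := H.zl_mem_T0
  let Φ : F × ↥(T0 J \ {Zl F}) → ↥(Tr J \ {Zl F}) := fun a =>
    ⟨U a.1 '' a.2.1, H.tr_image a.2.2.1.1 (H.hU _), fun h => a.2.2.2 (by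
      have h' : U a.1 '' a.2.1 = U a.1 '' Zl F := by rw [image_U_Zl]; exact h
      exact (U a.1).injective.image_injective h')⟩
  have hΦ : Function.Bijective Φ := by
    constructor
    · rintro ⟨r, T, ⟨hT, hTY⟩, hTne⟩ ⟨r', T', ⟨hT', hTY'⟩, hTne'⟩ h
      have h' : U r '' T = U r' '' T' := congrArg Subtype.val h
      obtain ⟨v, hv, hy⟩ := H.y_surj hT hTne 1
      obtain ⟨w, hw, hwe⟩ : U r v ∈ U r' '' T' := h' ▸ ⟨v, hv, rfl⟩
      obtain ⟨z, x, y⟩ := v
      obtain ⟨z', x', y'⟩ := w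
      have hx : x = 0 := hTY hv
      have hx' : x' = 0 := hTY' hw
      simp only at hy
      subst hx hx' hy
      simp only [U_apply, Prod.mk.injEq, zero_add] at hwe
      obtain ⟨-, h2, h3⟩ := hwe
      rw [h3, mul_one, mul_one] at h2
      subst h2
      have : T = T' := (U _).injective.image_injective h'
      subst this
      rfl
    · rintro ⟨T, hT, hTne⟩
      obtain ⟨r, h1, h2⟩ := H.exists_U_T0 hT hTne
      refine ⟨(-r, ⟨_, h1, h2⟩), Subtype.ext ?_⟩
      change U (-r) '' (U r '' T) = T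
      rw [← image_mul, U_mul, neg_add_cancel, U_zero]
      simp
  have h1 := Nat.card_eq_of_bijective Φ hΦ
  rw [Nat.card_prod, Nat.card_coe_set_eq, Nat.card_coe_set_eq] at h1
  have h2 := Set.ncard_sdiff_singleton_add_one hzl.1
  have h3 := Set.ncard_sdiff_singleton_add_one hzl
  rw [← h2, ← h1, ← h3, mul_add, mul_one]
  ring

/-- The centraliser of the reflection permutes the translates in its fixed space transitively. -/
theorem mem_T0_iff [Finite F] {T : Set (V F)} :
    T ∈ T0 J ↔ ∃ g ∈ J, S F * g = g * S F ∧ (g : V F → V F) '' Zl F = T := by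
  constructor
  · rintro ⟨⟨g, hg, rfl⟩, hY⟩
    have hfix : (g⁻¹ * S F * g) (1, 0, 0) = (1, 0, 0) := by
      rw [Equiv.Perm.mul_apply, Equiv.Perm.mul_apply, Equiv.Perm.inv_eq_iff_eq]
      have h := hY ⟨(1, 0, 0), ⟨rfl, rfl⟩, rfl⟩
      obtain ⟨a, b, c, e⟩ : ∃ a b c, g (1, 0, 0) = (a, b, c) := ⟨_, _, _, rfl⟩
      rw [e] at h ⊢
      have hb : b = 0 := h
      subst hb
      simp [S_apply]
    have hinv : g⁻¹ * S F * g * (g⁻¹ * S F * g) = 1 := by
      calc g⁻¹ * S F * g * (g⁻¹ * S F * g) = g⁻¹ * (S F * S F) * g := by group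
        _ = 1 := by rw [S_mul_self]; group
    have hne : g⁻¹ * S F * g ≠ 1 := by
      intro h
      have h1 : S F = 1 := by
        have : g * (g⁻¹ * S F * g) * g⁻¹ = 1 := by rw [h]; group
        calc S F = g * (g⁻¹ * S F * g) * g⁻¹ := by group
          _ = 1 := this
      have e := congrArg (fun f : Equiv.Perm (V F) => f (0, 1, 0)) h1
      simp only [S_apply, Equiv.Perm.coe_one, id_eq, Prod.mk.injEq, true_and, and_true] at e
      exact H.two_ne (by linear_combination -e)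
    obtain ⟨c, -, hc⟩ := H.invol_fix (J.mul_mem (J.mul_mem (J.inv_mem hg) H.S_mem) hg) hinv hne
      one_ne_zero hfix
    refine ⟨g * U c, J.mul_mem hg (H.hU c), ?_, by rw [image_mul, image_U_Zl]⟩
    calc S F * (g * U c) = g * (g⁻¹ * S F * g) * U c := by group
      _ = g * U c * S F := by
        rw [hc, ← U_inv c]; group
  · rintro ⟨g, hg, hc, rfl⟩
    refine ⟨⟨g, hg, rfl⟩, ?_⟩
    rintro _ ⟨w, hw, rfl⟩
    have h : S F (g w) = g w := by
      rw [← Equiv.Perm.mul_apply (S F) g, hc, Equiv.Perm.mul_apply, S, D_fix _ hw]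
    obtain ⟨a, b, c, e⟩ : ∃ a b c, g w = (a, b, c) := ⟨_, _, _, rfl⟩
    rw [e] at h ⊢
    simp only [S_apply, Prod.mk.injEq] at h
    exact (mul_eq_zero.1 (show (2 : F) * b = 0 by linear_combination -h.2.1)).resolve_left H.two_ne

/-- The centraliser of the reflection has order prime to `p`. -/
theorem not_dvd_centralizer [Finite F] :
    ¬ p ∣ Nat.card ↥(J ⊓ Subgroup.centralizer {S F}) := by
  haveI : Fact p.Prime := ⟨H.prime⟩
  intro hdvd
  obtain ⟨w, hw⟩ := exists_prime_orderOf_dvd_card' p hdvd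
  obtain ⟨hwJ, hwC⟩ := w.2
  replace hwC := Subgroup.mem_centralizer_singleton_iff.1 hwC
  let Uh : Multiplicative F →* ↥J :=
    { toFun := fun r => ⟨U (Multiplicative.toAdd r), H.hU _⟩
      map_one' := Subtype.ext U_zero
      map_mul' := fun r s => Subtype.ext (U_mul (Multiplicative.toAdd r) (Multiplicative.toAdd s)).symm }
  have hUinj : Function.Injective Uh := by
    intro r s h
    have h' : U (Multiplicative.toAdd r) * D (1 : Fˣ) = U (Multiplicative.toAdd s) * D 1 := by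
      rw [show U (Multiplicative.toAdd r) = U (Multiplicative.toAdd s) from congrArg Subtype.val h]
    exact Multiplicative.toAdd.injective (UD_inj H.two_ne h').1
  have hcardU : Nat.card Uh.range = p ^ n := by
    rw [← Nat.card_congr (MonoidHom.ofInjective hUinj).toEquiv,
      Nat.card_congr (Multiplicative.toAdd (α := F)), H.card]
  obtain ⟨P0, hP0⟩ := (IsPGroup.of_card hcardU).exists_le_sylow
  have hP0e : Uh.range = P0 := by
    refine Subgroup.eq_of_le_of_card_ge hP0 ?_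
    obtain ⟨m, hm⟩ := (IsPGroup.iff_card.1 P0.isPGroup')
    rw [hm, hcardU]
    refine Nat.pow_le_pow_right H.prime.pos ?_
    by_contra hlt
    exact H.pp ((pow_dvd_pow p (by omega : n + 1 ≤ m)).trans
      (hm ▸ Subgroup.card_subgroup_dvd_card (P0 : Subgroup J)))
  have hwp : orderOf (⟨(w : Equiv.Perm (V F)), hwJ⟩ : J) = p := by
    rw [← Subgroup.orderOf_coe] at hw ⊢
    exact hw
  have hwP : IsPGroup p (Subgroup.zpowers (⟨(w : Equiv.Perm (V F)), hwJ⟩ : J)) :=
    IsPGroup.of_card (n := 1) (by rw [Nat.card_zpowers, hwp, pow_one])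
  obtain ⟨Q, hQ⟩ := hwP.exists_le_sylow
  obtain ⟨g, hg⟩ := MulAction.exists_smul_eq J P0 Q
  have hmem := hQ (Subgroup.mem_zpowers _)
  rw [← hg, Sylow.coe_subgroup_smul, Subgroup.mem_pointwise_smul_iff_inv_smul_mem, ← hP0e] at hmem
  obtain ⟨r, hr⟩ := hmem
  have hr' : U (Multiplicative.toAdd r) =
      (g : Equiv.Perm (V F))⁻¹ * w * (g : Equiv.Perm (V F)) := by
    have := congrArg Subtype.val hr
    simpa [Uh, MulAut.smul_def] using this
  have hgJ : (g : Equiv.Perm (V F)) ∈ J := g.2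
  generalize (g : Equiv.Perm (V F)) = γ at hr' hgJ
  generalize Multiplicative.toAdd r = r at hr'
  have hr0 : r ≠ 0 := by
    rintro rfl
    rw [U_zero] at hr'
    have : (w : Equiv.Perm (V F)) = 1 := by
      calc (w : Equiv.Perm (V F)) = γ * (γ⁻¹ * w * γ) * γ⁻¹ := by group
        _ = 1 := by rw [← hr']; group
    rw [← Subgroup.orderOf_coe, this, orderOf_one] at hw
    exact H.prime.ne_one hw.symm
  have hcomm : γ⁻¹ * S F * γ * U r = U r * (γ⁻¹ * S F * γ) := by
    rw [hr']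
    calc γ⁻¹ * S F * γ * (γ⁻¹ * w * γ) = γ⁻¹ * (S F * w) * γ := by group
      _ = γ⁻¹ * (w * S F) * γ := by rw [hwC]
      _ = γ⁻¹ * w * γ * (γ⁻¹ * S F * γ) := by group
  have hhJ : γ⁻¹ * S F * γ ∈ J := J.mul_mem (J.mul_mem (J.inv_mem hgJ) H.S_mem) hgJ
  have h2 : ∀ v, (γ⁻¹ * S F * γ) ((γ⁻¹ * S F * γ) v) = v := fun v => by
    simp only [Equiv.Perm.mul_apply, app_inv]
    rw [← Equiv.Perm.mul_apply (S F) (S F), S_mul_self, Equiv.Perm.one_apply, inv_app]
  have hpres : ∀ v ∈ Zl F, (γ⁻¹ * S F * γ) v ∈ Zl F := fun v hv => H.fix_U hr0 (by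
    rw [← Equiv.Perm.mul_apply, ← hcomm, Equiv.Perm.mul_apply, U_fix r hv])
  by_cases hfix : ∃ z : F, z ≠ 0 ∧ (γ⁻¹ * S F * γ) (z, 0, 0) = (z, 0, 0)
  · obtain ⟨z, hz, hzf⟩ := hfix
    obtain ⟨c, -, hc⟩ := H.invol_fix hhJ (Equiv.ext h2) (by
      intro h
      have h1 : S F = 1 := by
        calc S F = γ * (γ⁻¹ * S F * γ) * γ⁻¹ := by group
          _ = 1 := by rw [h]; group
      have e := congrArg (fun f : Equiv.Perm (V F) => f (0, 1, 0)) h1
      simp only [S_apply, Equiv.Perm.coe_one, id_eq, Prod.mk.injEq, true_and, and_true] at e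
      exact H.two_ne (by linear_combination -e)) hz hzf
    rw [hc] at hcomm
    have h : U (c + -r) * (S F * U (-c)) = U (c + r) * (S F * U (-c)) := by
      calc U (c + -r) * (S F * U (-c)) = U c * S F * U (-c) * U r := by
            rw [mul_assoc (U c * S F), U_mul, mul_assoc, ← U_mul c, mul_assoc, ← mul_assoc (U (-r)),
              ← S_mul_U, mul_assoc, U_mul, add_comm r]
        _ = U r * (U c * S F * U (-c)) := hcomm
        _ = U (c + r) * (S F * U (-c)) := by
            rw [mul_assoc (U c), ← mul_assoc, U_mul, add_comm r]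
    have h' : U (c + -r) * D (1 : Fˣ) = U (c + r) * D 1 := by rw [mul_right_cancel h]
    obtain ⟨e, -⟩ := UD_inj H.two_ne h'
    exact hr0 ((mul_eq_zero.1 (show (2 : F) * r = 0 by linear_combination -e)).resolve_left H.two_ne)
  · have hneg : (γ⁻¹ * S F * γ) (1, 0, 0) = -(1, 0, 0) := by
      obtain ⟨a, b, c, e⟩ : ∃ a b c, (γ⁻¹ * S F * γ) (1, 0, 0) = (a, b, c) := ⟨_, _, _, rfl⟩
      have hm := hpres (1, 0, 0) ⟨rfl, rfl⟩
      rw [e] at hm
      obtain ⟨hb, hc⟩ := hm
      simp only at hb hc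
      subst hb hc
      have ha : 1 + a = 0 := by
        by_contra ha
        refine hfix ⟨1 + a, ha, ?_⟩
        have hs : ((1 + a, 0, 0) : V F) = (1, 0, 0) + (a, 0, 0) := by simp
        rw [hs, H.add _ hhJ, e]
        have := h2 (1, 0, 0)
        rw [e] at this
        rw [this, add_comm]
      rw [e, eq_neg_of_add_eq_zero_right ha]
      simp
    exact hr0 (H.no_normal hgJ (v := (1, 0, 0)) ⟨rfl, rfl⟩
      (fun h => one_ne_zero (congrArg Prod.fst h)) hneg hcomm)

theorem dvd_sub_one [Finite F] : (T0 J).ncard ∣ Nat.card F - 1 := by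
  haveI : Fact p.Prime := ⟨H.prime⟩
  let C : Subgroup (Equiv.Perm (V F)) := J ⊓ Subgroup.centralizer {S F}
  have hmemC : ∀ g, g ∈ C ↔ g ∈ J ∧ S F * g = g * S F := fun g => by
    rw [Subgroup.mem_inf, Subgroup.mem_centralizer_singleton_iff]
    exact and_congr_right fun _ => eq_comm
  have hJo : MulAction.orbit ↥J (Zl F) = Tr J := by
    ext T
    constructor
    · rintro ⟨g, rfl⟩
      exact ⟨g, g.2, rfl⟩
    · rintro ⟨g, hg, rfl⟩
      exact ⟨⟨g, hg⟩, rfl⟩
  have hCo : MulAction.orbit ↥C (Zl F) = T0 J := by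
    ext T
    rw [H.mem_T0_iff]
    constructor
    · rintro ⟨g, rfl⟩
      exact ⟨g, ((hmemC _).1 g.2).1, ((hmemC _).1 g.2).2, rfl⟩
    · rintro ⟨g, hg, hc, rfl⟩
      exact ⟨⟨g, (hmemC g).2 ⟨hg, hc⟩⟩, rfl⟩
  have hJs : ∀ g : ↥J, g ∈ MulAction.stabilizer ↥J (Zl F) ↔
      ((g : Equiv.Perm (V F)) : V F → V F) '' Zl F = Zl F := fun g => Iff.rfl
  have hCs : ∀ g : ↥C, g ∈ MulAction.stabilizer ↥C (Zl F) ↔
      ((g : Equiv.Perm (V F)) : V F → V F) '' Zl F = Zl F := fun g => Iff.rfl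
  let Φ : F × ↥(MulAction.stabilizer ↥C (Zl F)) → ↥(MulAction.stabilizer ↥J (Zl F)) := fun a =>
    ⟨⟨U a.1 * (a.2.1 : Equiv.Perm (V F)), J.mul_mem (H.hU _) ((hmemC _).1 a.2.1.2).1⟩,
      (hJs _).2 (by rw [image_mul, (hCs _).1 a.2.2, image_U_Zl])⟩
  have hΦ : Function.Bijective Φ := by
    constructor
    · rintro ⟨r, ⟨⟨h, hh⟩, hs⟩⟩ ⟨r', ⟨⟨h', hh'⟩, hs'⟩⟩ e
      have e' : U r * h = U r' * h' := congrArg (fun a => ((a : ↥J) : Equiv.Perm (V F)))
        (congrArg Subtype.val e)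
      have hk : h' = U (r - r') * h := by
        rw [sub_eq_neg_add, ← U_mul, mul_assoc, e', ← mul_assoc, U_mul, neg_add_cancel, U_zero,
          one_mul]
      have hcc : S F * U (r - r') * h = U (r - r') * S F * h := by
        rw [mul_assoc, ← hk, ((hmemC _).1 hh').2, hk, mul_assoc, ← ((hmemC _).1 hh).2, ← mul_assoc]
      have hcU := mul_right_cancel hcc
      rw [S_mul_U] at hcU
      have h1 : U (-(r - r')) * D (1 : Fˣ) = U (r - r') * D 1 := by rw [mul_right_cancel hcU]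
      obtain ⟨e1, -⟩ := UD_inj H.two_ne h1
      have : r = r' := sub_eq_zero.1 ((mul_eq_zero.1
        (show (2 : F) * (r - r') = 0 by linear_combination -e1)).resolve_left H.two_ne)
      subst this
      rw [sub_self, U_zero, one_mul] at hk
      subst hk
      rfl
    · rintro ⟨⟨g, hg⟩, hgs⟩
      rw [hJs] at hgs
      simp only at hgs
      have hfix : (g * S F * g⁻¹) (1, 0, 0) = (1, 0, 0) := by
        obtain ⟨w, hw, hwe⟩ : ((1, 0, 0) : V F) ∈ g '' Zl F := by rw [hgs]; exact ⟨rfl, rfl⟩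
        rw [← hwe, Equiv.Perm.mul_apply, Equiv.Perm.mul_apply, inv_app, S, D_fix _ hw]
      have hinv : g * S F * g⁻¹ * (g * S F * g⁻¹) = 1 := by
        calc g * S F * g⁻¹ * (g * S F * g⁻¹) = g * (S F * S F) * g⁻¹ := by group
          _ = 1 := by rw [S_mul_self]; group
      have hne : g * S F * g⁻¹ ≠ 1 := by
        intro h
        have h1 : S F = 1 := by
          calc S F = g⁻¹ * (g * S F * g⁻¹) * g := by group
            _ = 1 := by rw [h]; group
        have e := congrArg (fun f : Equiv.Perm (V F) => f (0, 1, 0)) h1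
        simp only [S_apply, Equiv.Perm.coe_one, id_eq, Prod.mk.injEq, true_and, and_true] at e
        exact H.two_ne (by linear_combination -e)
      obtain ⟨c, -, hc⟩ := H.invol_fix (J.mul_mem (J.mul_mem hg H.S_mem) (J.inv_mem hg)) hinv hne
        one_ne_zero hfix
      have hC : U (-c) * g ∈ C := (hmemC _).2 ⟨J.mul_mem (H.hU _) hg, by
        calc S F * (U (-c) * g) = U (-c) * (U c * S F * U (-c)) * g := by
              rw [← U_inv c]; group
          _ = U (-c) * g * S F := by rw [← hc]; group⟩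
      have hS : (⟨_, hC⟩ : ↥C) ∈ MulAction.stabilizer ↥C (Zl F) :=
        (hCs _).2 (by rw [image_mul, hgs, image_U_Zl])
      refine ⟨(c, ⟨_, hS⟩), Subtype.ext (Subtype.ext ?_)⟩
      change U c * (U (-c) * g) = g
      rw [← mul_assoc, U_mul, add_neg_cancel, U_zero, one_mul]
  have hN := Nat.card_eq_of_bijective Φ hΦ
  rw [Nat.card_prod] at hN
  have hJ := Subgroup.index_mul_card (MulAction.stabilizer ↥J (Zl F))
  have hC := Subgroup.index_mul_card (MulAction.stabilizer ↥C (Zl F))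
  rw [MulAction.index_stabilizer, hJo, ← hN] at hJ
  rw [MulAction.index_stabilizer, hCo] at hC
  have hdvd : Nat.card ↥C ∣ Nat.card ↥J := Subgroup.card_dvd_of_le inf_le_left
  rw [← hC, ← hJ, ← mul_assoc (Tr J).ncard] at hdvd
  have hfk := Nat.dvd_of_mul_dvd_mul_right Nat.card_pos hdvd
  have hpf : ¬ p ∣ (T0 J).ncard := fun h => H.not_dvd_centralizer
    (h.trans ⟨_, hC.symm⟩)
  have hcop : Nat.Coprime (T0 J).ncard (Nat.card F) := by
    rw [H.card]
    exact Nat.Coprime.pow_right _ ((H.prime.coprime_iff_not_dvd.2 hpf).symm)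
  have hk := Nat.dvd_sub (dvd_mul_left (T0 J).ncard (Nat.card F))
    (hcop.dvd_of_dvd_mul_right hfk)
  have := H.card_Tr
  rwa [show Nat.card F * (T0 J).ncard - (Tr J).ncard = Nat.card F - 1 by omega] at hk

theorem D_image_T0 [Finite F] (a : Fˣ) {T : Set (V F)} (hT : T ∈ T0 J) : D a '' T ∈ T0 J := by
  refine ⟨H.tr_image hT.1 (H.hD a), ?_⟩
  rintro _ ⟨⟨z, x, y⟩, hv, rfl⟩
  have hx : x = 0 := hT.2 hv
  simp [Yl, D_apply, hx]

theorem eq_Gr_zero [Finite F] {T : Set (V F)} (hT : T ∈ T0 J) (hne : T ≠ Zl F) {a : Fˣ}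
    (ha : (a : F) ^ 2 ≠ 1) (hfix : D a '' T = T) : T = Gr 0 := by
  have hsub : ∀ y : F, ((0, 0, y) : V F) ∈ T := by
    intro y
    obtain ⟨⟨z, x, y'⟩, hv, hy⟩ := H.y_surj hT.1 hne (y / ((a : F) ^ 2 - 1))
    have hx : x = 0 := hT.2 hv
    simp only at hy
    subst hx
    have hm : D a (z, 0, y') ∈ T := hfix ▸ ⟨_, hv, rfl⟩
    have := H.tr_sub hT.1 hm hv
    rw [D_apply] at this
    simp only [Prod.mk_sub_mk, mul_zero, sub_self] at this
    have e : (a : F) ^ 2 * y' - y' = y := by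
      rw [hy]; field_simp [sub_ne_zero.2 ha]
    rwa [e] at this
  ext v
  constructor
  · intro hv
    have h := H.y_inj hT.1 hne hv (hsub v.2.2) rfl
    rw [h]
    simp [Gr]
  · rintro ⟨h1, h2⟩
    obtain ⟨z, x, y⟩ := v
    simp only [zero_mul] at h1 h2
    subst h1 h2
    exact hsub y

/-- Exactly two translates lie in the fixed space of the reflection. -/
theorem exists_two [Finite F] (hmove : ∃ g ∈ J, (g : V F → V F) '' Zl F ≠ Zl F) :
    ∃ c : F, (c = 0 ∨ ∀ a : Fˣ, (a : F) ^ 2 = 1) ∧ T0 J = {Zl F, Gr c} ∧ Gr c ≠ Zl F := by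
  classical
  haveI := Fintype.ofFinite F
  obtain ⟨g, hg, hgne⟩ := hmove
  obtain ⟨r, hr1, hr2⟩ := H.exists_U_T0 ⟨g, hg, rfl⟩ hgne
  set q := Nat.card F with hq
  set f := (T0 J).ncard with hf
  have hq4 := H.mod_four
  have hf2 : 2 ≤ f := (Set.one_lt_ncard (Set.toFinite _)).2 ⟨_, H.zl_mem_T0, _, hr1, hr2.symm⟩
  have hdiv := H.dvd_sub_one
  obtain ⟨l, hl⟩ : ∃ l, q - 1 = 2 * l := ⟨(q - 1) / 2, by omega⟩
  have hlodd : l % 2 = 1 := by omega
  have hpair : f = 2 → ∃ T1, T1 ≠ Zl F ∧ T0 J = {Zl F, T1} := by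
    intro h
    refine ⟨_, hr2, (Set.eq_of_subset_of_ncard_le ?_ ?_ (Set.toFinite _)).symm⟩
    · rintro T (rfl | rfl)
      exacts [H.zl_mem_T0, hr1]
    · rw [Set.ncard_pair hr2.symm]; exact h.le
  have hGr0 : ∀ c : F, Gr c ≠ Zl F := by
    intro c h
    have : ((c, 0, 1) : V F) ∈ Zl F := h ▸ ⟨by simp, rfl⟩
    exact one_ne_zero this.2
  by_cases hl1 : l = 1
  · have hf' : f = 2 := by
      have := Nat.le_of_dvd (by omega) hdiv
      omega
    obtain ⟨T1, hne, hT0⟩ := hpair hf'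
    have hT1 : T1 ∈ T0 J := by rw [hT0]; exact Or.inr rfl
    have hsq : ∀ a : Fˣ, (a : F) ^ 2 = 1 := by
      intro a
      have h : Nat.card Fˣ = 2 := by rw [Nat.card_units]; omega
      rw [← Units.val_pow_eq_pow_val, ← h, pow_card_eq_one', Units.val_one]
    obtain ⟨⟨c, x, y⟩, hv, hy⟩ := H.y_surj hT1.1 hne 1
    have hx : x = 0 := hT1.2 hv
    simp only at hy
    subst hx hy
    refine ⟨c, Or.inr hsq, ?_, hGr0 c⟩
    have hgr : T1 = Gr c := by
      have key : ∀ y : F, ((c * y, 0, y) : V F) ∈ T1 := by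
        intro y
        by_cases hy : y = 0
        · subst hy; rw [mul_zero]; exact H.tr_zero hT1.1
        · rcases sq_eq_one_iff.1 (hsq (Units.mk0 y hy)) with h | h <;>
            simp only [Units.val_mk0] at h <;> subst h
          · rw [mul_one]; exact hv
          · have := H.tr_sub hT1.1 (H.tr_zero hT1.1) hv
            simpa using this
      ext v
      constructor
      · intro hv'
        rw [H.y_inj hT1.1 hne hv' (key v.2.2) rfl]
        simp [Gr]
      · rintro ⟨h1, h2⟩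
        obtain ⟨z, x, y⟩ := v
        simp only at h1 h2
        subst h1 h2
        exact key y
    rw [hT0, hgr]
  · refine ⟨0, Or.inl rfl, ?_, hGr0 0⟩
    suffices hR : ∀ T ∈ T0 J, T ≠ Zl F → T = Gr 0 by
      refine Set.Subset.antisymm (fun T hT => ?_) ?_
      · by_cases h : T = Zl F
        exacts [Or.inl h, Or.inr (hR T hT h)]
      · rintro T (rfl | rfl)
        exacts [H.zl_mem_T0, hR _ hr1 hr2 ▸ hr1]
    by_contra hne
    push Not at hne
    obtain ⟨T, hT, hTZ, hTG⟩ := hne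
    let R : Set (Set (V F)) := T0 J \ {Zl F, Gr 0}
    have hDR : ∀ (a : Fˣ) (T : Set (V F)), T ∈ R → D a '' T ∈ R := by
      intro a T hT
      refine ⟨H.D_image_T0 a hT.1, ?_⟩
      rintro (h | h)
      · refine hT.2 (Or.inl ((D a).injective.image_injective (h.trans ?_)))
        ext v
        refine ⟨fun hv => ⟨v, hv, D_fix a hv⟩, ?_⟩
        rintro ⟨w, hw, rfl⟩
        rwa [D_fix a hw]
      · refine hT.2 (Or.inr ((D a).injective.image_injective (h.trans ?_)))
        ext ⟨z, x, y⟩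
        constructor
        · rintro ⟨h1, h2⟩
          simp only [zero_mul] at h1 h2
          subst h1 h2
          refine ⟨(0, 0, y / (a : F) ^ 2), ⟨by simp, rfl⟩, ?_⟩
          rw [D_apply]
          simp [mul_div_cancel₀, a.ne_zero]
        · rintro ⟨⟨z', x', y'⟩, ⟨h1, h2⟩, he⟩
          simp only [zero_mul] at h1 h2
          subst h1 h2
          rw [D_apply] at he
          simp only [Prod.mk.injEq, mul_zero] at he
          exact ⟨by simp [← he.1], he.2.1.symm⟩
    have hfree : ∀ (a : Fˣ) (T : Set (V F)), T ∈ R → (a : F) ^ 2 ≠ 1 → D a '' T ≠ T :=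
      fun a T hT ha h => hT.2 (Or.inr (H.eq_Gr_zero hT.1 (fun e => hT.2 (Or.inl e)) ha h))
    have hTR : T ∈ R := ⟨hT, by rintro (h | h); exacts [hTZ h, hTG h]⟩
    haveI : Fintype ↥R := Fintype.ofFinite _
    have hbig : l ≤ R.ncard := by
      let φ : Fˣ → ↥R := fun a => ⟨D a '' T, hDR a T hTR⟩
      have hfib : ∀ b ∈ (Finset.univ : Finset Fˣ).image φ,
          ((Finset.univ : Finset Fˣ).filter (fun a => φ a = b)).card ≤ 2 := by
        intro b hb
        obtain ⟨a₀, -, rfl⟩ := Finset.mem_image.1 hb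
        refine (Finset.card_le_card (t := {a₀, -a₀}) ?_).trans Finset.card_le_two
        intro a ha
        rw [Finset.mem_filter] at ha
        have h : D a '' T = D a₀ '' T := congrArg Subtype.val ha.2
        have h' : D (a₀⁻¹ * a) '' T = T := by
          rw [← D_mul, image_mul, h, ← image_mul, D_mul, inv_mul_cancel, D_one]
          simp
        have hs : ((a₀⁻¹ * a : Fˣ) : F) ^ 2 = 1 := by
          by_contra hs
          exact hfree _ T hTR hs h'
        rw [Finset.mem_insert, Finset.mem_singleton]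
        rcases sq_eq_one_iff.1 hs with hs | hs
        · exact Or.inl (inv_mul_eq_one.1 (Units.ext hs)).symm
        · refine Or.inr ?_
          have : a₀⁻¹ * a = -1 := Units.ext (by simpa using hs)
          rw [inv_mul_eq_iff_eq_mul] at this
          rw [this, mul_neg, mul_one]
      have h := Finset.card_le_mul_card_image (f := φ) Finset.univ 2 hfib
      rw [Finset.card_univ] at h
      have h2 : ((Finset.univ : Finset Fˣ).image φ).card ≤ R.ncard := by
        rw [← Nat.card_coe_set_eq, Nat.card_eq_fintype_card]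
        exact Finset.card_le_univ _
      have hu : Fintype.card Fˣ = 2 * l := by
        rw [← Nat.card_eq_fintype_card, Nat.card_units, ← hq]; omega
      omega
    have hRle : R.ncard + 1 ≤ f := by
      have h : R ⊆ T0 J \ {Zl F} := fun T hT => ⟨hT.1, fun h => hT.2 (Or.inl h)⟩
      have h1 := Set.ncard_le_ncard h (Set.toFinite _)
      have h2 := Set.ncard_sdiff_singleton_add_one H.zl_mem_T0
      omega
    have hfeq : f = 2 * l := by
      rw [hl, ← hf] at hdiv
      obtain ⟨m, hm⟩ := hdiv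
      have : m < 2 := by
        by_contra h
        have h' : f * 2 ≤ f * m := Nat.mul_le_mul le_rfl (by omega)
        omega
      interval_cases m
      · omega
      · omega
    have hRge : f ≤ R.ncard + 2 := by
      have h : T0 J ⊆ R ∪ {Zl F, Gr 0} := fun T hT => by
        by_cases h : T ∈ ({Zl F, Gr 0} : Set (Set (V F)))
        exacts [Or.inr h, Or.inl ⟨hT, h⟩]
      have h1 := (Set.ncard_le_ncard h (Set.toFinite _)).trans (Set.ncard_union_le _ _)
      rw [Set.ncard_pair (hGr0 0).symm] at h1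
      exact h1
    obtain ⟨e, he, hel⟩ := Nat.exists_prime_and_dvd hl1
    haveI : Fact e.Prime := ⟨he⟩
    have he2 : e ≠ 2 := by
      rintro rfl
      omega
    have hdvd : e ∣ Nat.card Fˣ := by
      rw [Nat.card_units, ← hq, hl]; exact hel.trans (dvd_mul_left l 2)
    obtain ⟨a, ha⟩ := exists_prime_orderOf_dvd_card' e hdvd
    have hasq : (a : F) ^ 2 ≠ 1 := by
      intro h
      have : a ^ 2 = 1 := Units.ext (by simpa using h)
      have := orderOf_dvd_of_pow_eq_one this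
      rw [ha] at this
      exact he2 ((Nat.prime_dvd_prime_iff_eq he Nat.prime_two).1 this)
    let σ : Equiv.Perm ↥R :=
      { toFun := fun T => ⟨D a '' T.1, hDR a T.1 T.2⟩
        invFun := fun T => ⟨D a⁻¹ '' T.1, hDR a⁻¹ T.1 T.2⟩
        left_inv := fun T => Subtype.ext (by
          change D a⁻¹ '' (D a '' T.1) = T.1
          rw [← image_mul, D_mul, inv_mul_cancel, D_one]; simp)
        right_inv := fun T => Subtype.ext (by
          change D a '' (D a⁻¹ '' T.1) = T.1
          rw [← image_mul, D_mul, mul_inv_cancel, D_one]; simp) }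
    have hσ : ∀ (k : ℕ) (T : ↥R), ((σ ^ k) T).1 = D (a ^ k) '' T.1 := by
      intro k
      induction k with
      | zero => intro T; simp [D_one]
      | succ k ih =>
        intro T
        rw [pow_succ', Equiv.Perm.mul_apply]
        change D a '' ((σ ^ k) T).1 = _
        rw [ih, ← image_mul, D_mul, ← pow_succ']
    have hσe : σ ^ e ^ 1 = 1 := Equiv.ext fun T => Subtype.ext (by
      rw [pow_one, hσ, ← ha, pow_orderOf_eq_one, D_one]; simp)
    have hnd : ¬ e ∣ Fintype.card ↥R := by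
      rw [← Nat.card_eq_fintype_card, Nat.card_coe_set_eq]
      intro hd
      have hd2 : e ∣ 2 * l := hel.trans (dvd_mul_left l 2)
      have := Nat.dvd_sub hd2 hd
      have hle : 2 * l - R.ncard ≤ 2 := by omega
      have h1 : 1 ≤ 2 * l - R.ncard := by omega
      have := Nat.le_of_dvd h1 this
      have := he.two_le
      omega
    obtain ⟨T', hT'⟩ := σ.exists_fixed_point_of_prime hnd hσe
    exact hfree a T'.1 T'.2 hasq (congrArg Subtype.val hT')

end Hyp

end Cfsg.Agent.Lib.PSp4Local4
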