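import Cfsg.Agent.Lib.PSp4Local4.Count

/-!
# The local group is the image of `GL₂`

With exactly two translates of the first line in the fixed space of the reflection, and two
inequivalent points on that line, the group is the image of `GL₂`, which is `PGL₂ × C_((q-1)/2)`.
-/

set_option autoImplicit false
set_option linter.unusedSectionVars false
set_option linter.style.haveILetI false

namespace Cfsg.Agent.Lib.PSp4Local4

open scoped Pointwise

universe u

variable {F : Type u} [Field F]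

/-- In a field of order `≡ 3 (mod 4)` every non-zero element is a square up to sign. -/
theorem exists_sq [Finite F] (h4 : Nat.card F % 4 = 3) {d : F} (hd : d ≠ 0) :
    ∃ e : F, e ≠ 0 ∧ (e ^ 2 = d ∨ e ^ 2 = -d) := by
  classical
  haveI := Fintype.ofFinite F
  rw [Nat.card_eq_fintype_card] at h4
  have h2 : ringChar F ≠ 2 := by
    intro h
    have := FiniteField.even_card_of_char_two (F := F) h
    omega
  have hn1 : ¬ IsSquare (-1 : F) := fun h => FiniteField.isSquare_neg_one_iff.1 h h4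
  by_cases h : IsSquare d
  · obtain ⟨e, he⟩ := h
    exact ⟨e, fun h0 => hd (by rw [he, h0, mul_zero]), Or.inl (by rw [he, pow_two])⟩
  · have hd' : -d ≠ 0 := neg_ne_zero.2 hd
    have : IsSquare (-d) := by
      rw [← quadraticChar_one_iff_isSquare hd', show -d = -1 * d by ring, map_mul,
        quadraticChar_neg_one_iff_not_isSquare.2 h, quadraticChar_neg_one_iff_not_isSquare.2 hn1]
      norm_num
    obtain ⟨e, he⟩ := this
    exact ⟨e, fun h0 => hd' (by rw [he, h0, mul_zero]), Or.inr (by rw [he, pow_two])⟩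

theorem mem_Yl_iff {v : V F} (h2 : (2 : F) ≠ 0) : v ∈ Yl F ↔ S F v = v := by
  obtain ⟨z, x, y⟩ := v
  simp only [Yl, Set.mem_ofPred_eq, S_apply, Prod.mk.injEq, true_and, and_true]
  constructor
  · intro h; rw [h, neg_zero]
  · intro h
    exact (mul_eq_zero.1 (show (2 : F) * x = 0 by linear_combination -h)).resolve_left h2

theorem mem_Xl_iff {v : V F} (h2 : (2 : F) ≠ 0) : v ∈ Xl F ↔ S F v = -v := by
  obtain ⟨z, x, y⟩ := v
  simp only [Xl, Set.mem_ofPred_eq, S_apply, Prod.neg_mk, Prod.mk.injEq, true_and]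
  constructor
  · rintro ⟨rfl, rfl⟩; simp
  · rintro ⟨h, h'⟩
    exact ⟨(mul_eq_zero.1 (show (2 : F) * z = 0 by linear_combination h)).resolve_left h2,
      (mul_eq_zero.1 (show (2 : F) * y = 0 by linear_combination h')).resolve_left h2⟩

/-- The shear straightening a graph. -/
def mu (c : F) : Equiv.Perm (V F) where
  toFun v := (v.1 - c * v.2.2, v.2.1, v.2.2)
  invFun v := (v.1 + c * v.2.2, v.2.1, v.2.2)
  left_inv v := by simp
  right_inv v := by simp

theorem mu_apply (c z x y : F) : mu c (z, x, y) = (z - c * y, x, y) := rfl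

namespace Hyp

variable {p n : ℕ} {J : Subgroup (Equiv.Perm (V F))} (H : Hyp p n J)
include H

/-- Straightened data force the group to be the image of `GL₂`. -/
theorem eq_range [Finite F] (hT : T0 J = {Zl F, Gr 0}) (hne : Gr (0 : F) ≠ Zl F)
    (htwo : ∃ z₁ z₂ : F, z₁ ≠ 0 ∧ z₂ ≠ 0 ∧ ∀ j ∈ J, j (z₁, 0, 0) ≠ (z₂, 0, 0)) :
    J = (Ad (F := F)).range := by
  classical
  have h2 := H.two_ne
  have hGr : ∀ {v : V F}, v ∈ Gr (0 : F) ↔ v.1 = 0 ∧ v.2.1 = 0 := fun {v} => by simp [Gr]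
  have hcY : ∀ g : Equiv.Perm (V F), S F * g = g * S F → ∀ v ∈ Yl F, g v ∈ Yl F := by
    intro g hg v hv
    rw [mem_Yl_iff h2] at hv ⊢
    rw [← Equiv.Perm.mul_apply, hg, Equiv.Perm.mul_apply, hv]
  have hcX : ∀ g ∈ J, S F * g = g * S F → ∀ v ∈ Xl F, g v ∈ Xl F := by
    intro g hgJ hg v hv
    rw [mem_Xl_iff h2] at hv ⊢
    rw [← Equiv.Perm.mul_apply, hg, Equiv.Perm.mul_apply, hv, H.map_neg hgJ]
  obtain ⟨g₀, hg₀, hg₀S, hg₀Z⟩ := H.mem_T0_iff.1 (show Gr (0 : F) ∈ T0 J by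
    rw [hT]; exact Or.inr rfl)
  have hg₀G : g₀ '' Gr 0 = Zl F := by
    have hmem : g₀ '' Gr 0 ∈ T0 J := by
      refine ⟨H.tr_image ⟨g₀, hg₀, hg₀Z⟩ hg₀, ?_⟩
      rintro _ ⟨v, hv, rfl⟩
      exact hcY g₀ hg₀S v (hGr.1 hv).2
    rw [hT] at hmem
    rcases hmem with h | h
    · exact h
    · exact absurd (g₀.injective.image_injective (h.trans hg₀Z.symm)) hne
  have hg₀S' : S F * g₀⁻¹ = g₀⁻¹ * S F := by
    calc S F * g₀⁻¹ = g₀⁻¹ * (g₀ * S F) * g₀⁻¹ := by group
      _ = g₀⁻¹ * (S F * g₀) * g₀⁻¹ := by rw [hg₀S]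
      _ = g₀⁻¹ * S F := by group
  have e1 : ∀ z : F, ∃ d, g₀ (z, 0, 0) = (0, 0, d) := by
    intro z
    have h : g₀ (z, 0, 0) ∈ Gr (0 : F) := hg₀Z ▸ ⟨(z, 0, 0), ⟨rfl, rfl⟩, rfl⟩
    obtain ⟨a, b, c, e⟩ : ∃ a b c, g₀ (z, 0, 0) = (a, b, c) := ⟨_, _, _, rfl⟩
    rw [e] at h ⊢
    obtain ⟨rfl, rfl⟩ := hGr.1 h
    exact ⟨c, rfl⟩
  have e2 : ∀ x : F, ∃ c, g₀ (0, x, 0) = (0, c, 0) := by
    intro x
    have h := hcX g₀ hg₀ hg₀S (0, x, 0) ⟨rfl, rfl⟩
    obtain ⟨a, b, c, e⟩ : ∃ a b c, g₀ (0, x, 0) = (a, b, c) := ⟨_, _, _, rfl⟩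
    rw [e] at h ⊢
    obtain ⟨h1, h2⟩ := h
    simp only at h1 h2
    subst h1 h2
    exact ⟨b, rfl⟩
  have e2' : ∀ x : F, ∃ c, g₀⁻¹ (0, x, 0) = (0, c, 0) := by
    intro x
    have h := hcX g₀⁻¹ (J.inv_mem hg₀) hg₀S' (0, x, 0) ⟨rfl, rfl⟩
    obtain ⟨a, b, c, e⟩ : ∃ a b c, g₀⁻¹ (0, x, 0) = (a, b, c) := ⟨_, _, _, rfl⟩
    rw [e] at h ⊢
    obtain ⟨h1, h2⟩ := h
    simp only at h1 h2
    subst h1 h2
    exact ⟨b, rfl⟩
  have e3' : ∀ z : F, ∃ y, g₀⁻¹ (z, 0, 0) = (0, 0, y) := by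
    intro z
    obtain ⟨⟨a, b, c⟩, hv, he⟩ : ((z, 0, 0) : V F) ∈ g₀ '' Gr 0 := by rw [hg₀G]; exact ⟨rfl, rfl⟩
    obtain ⟨h1, h2⟩ := hGr.1 hv
    simp only at h1 h2
    subst h1 h2
    exact ⟨c, by rw [← he, inv_app]⟩
  -- the conjugates of the upper unipotents
  have hfixG : ∀ (t y : F), (g₀ * U t * g₀⁻¹) (0, 0, y) = (0, 0, y) := by
    intro t y
    obtain ⟨w, hw, he⟩ : ((0, 0, y) : V F) ∈ g₀ '' Zl F := by rw [hg₀Z]; simp [Gr]
    rw [← he, Equiv.Perm.mul_apply, Equiv.Perm.mul_apply, inv_app, U_fix t hw]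
  have hz : ∀ (t z : F), ∃ X Y, (g₀ * U t * g₀⁻¹) (z, 0, 0) = (z, X, Y) ∧
      (t ≠ 0 → z ≠ 0 → X ≠ 0) := by
    intro t z
    obtain ⟨y, hy⟩ := e3' z
    obtain ⟨d, hd⟩ := e1 (t ^ 2 * y)
    obtain ⟨c, hc⟩ := e2 (t * y)
    have hy' : g₀ (0, 0, y) = (z, 0, 0) := by rw [← hy, app_inv]
    refine ⟨c, d, ?_, ?_⟩
    · have hs : U t (0, 0, y) = (t ^ 2 * y, 0, 0) + (0, t * y, 0) + (0, 0, y) := by simp [U_apply]
      rw [Equiv.Perm.mul_apply, Equiv.Perm.mul_apply, hy, hs, H.add g₀ hg₀, H.add g₀ hg₀, hd, hc,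
        hy']
      simp
    · intro ht hz hc0
      rw [hc0, show ((0, 0, 0) : V F) = g₀ 0 from (H.map_zero hg₀).symm] at hc
      have := congrArg (fun v : V F => v.2.1) (g₀.injective hc)
      simp only [Prod.snd_zero, Prod.fst_zero, mul_eq_zero, ht, false_or] at this
      subst this
      exact hz (congrArg Prod.fst (hy'.symm.trans (H.map_zero hg₀)))
  have hx : ∀ (t x : F), ∃ Y, (g₀ * U t * g₀⁻¹) (0, x, 0) = (0, x, Y) := by
    intro t x
    obtain ⟨x', hx'⟩ := e2' x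
    obtain ⟨d, hd⟩ := e1 (2 * t * x')
    have hx'' : g₀ (0, x', 0) = (0, x, 0) := by rw [← hx', app_inv]
    refine ⟨d, ?_⟩
    have hs : U t (0, x', 0) = (2 * t * x', 0, 0) + (0, x', 0) := by simp [U_apply]
    rw [Equiv.Perm.mul_apply, Equiv.Perm.mul_apply, hx', hs, H.add g₀ hg₀, hd, hx'']
    simp
  have hrJ : ∀ t, g₀ * U t * g₀⁻¹ ∈ J := fun t =>
    J.mul_mem (J.mul_mem hg₀ (H.hU t)) (J.inv_mem hg₀)
  have hρ : ∀ t : F, t ≠ 0 → ∃ ρ : F, ρ ≠ 0 ∧
      ∀ z, (g₀ * U t * g₀⁻¹) (z, 0, 0) = (z, ρ * z, ρ ^ 2 * z) := by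
    intro t ht
    have hTne : (g₀ * U t * g₀⁻¹) '' Zl F ≠ Zl F := by
      intro h
      obtain ⟨X, Y, e, hX⟩ := hz t 1
      have hm := H.apply_mem_Zl h (v := ((1, 0, 0) : V F)) ⟨rfl, rfl⟩
      rw [e] at hm
      exact hX ht one_ne_zero hm.1
    obtain ⟨r, hr1, hr2⟩ := H.exists_U_T0 ⟨_, hrJ t, rfl⟩ hTne
    rw [hT] at hr1
    have hr : U r '' ((g₀ * U t * g₀⁻¹) '' Zl F) = Gr 0 := hr1.resolve_left hr2
    have key : ∀ z X Y, (g₀ * U t * g₀⁻¹) (z, 0, 0) = (z, X, Y) → z + r * X = 0 ∧ X + r * Y = 0 := by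
      intro z X Y e
      have hm : U r ((g₀ * U t * g₀⁻¹) (z, 0, 0)) ∈ Gr (0 : F) :=
        hr ▸ ⟨_, ⟨_, ⟨rfl, rfl⟩, rfl⟩, rfl⟩
      rw [e, U_apply] at hm
      obtain ⟨h1, h2⟩ := hGr.1 hm
      exact ⟨by linear_combination h1 - r * h2, h2⟩
    have hr0 : r ≠ 0 := by
      rintro rfl
      obtain ⟨X, Y, e, -⟩ := hz t 1
      simpa using (key 1 X Y e).1
    refine ⟨-1 / r, div_ne_zero (neg_ne_zero.2 one_ne_zero) hr0, fun z => ?_⟩
    obtain ⟨X, Y, e, -⟩ := hz t z
    obtain ⟨h1, h2⟩ := key z X Y e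
    rw [e]
    simp only [Prod.mk.injEq, true_and]
    constructor
    · field_simp; linear_combination h1
    · field_simp; linear_combination r * h2 - h1
  have hL : ∀ t : F, ∃ ρ, g₀ * U t * g₀⁻¹ = L ρ := by
    intro t
    by_cases ht : t = 0
    · refine ⟨0, ?_⟩
      rw [ht, U_zero, mul_one, mul_inv_cancel]
      exact perm_ext fun z x y => by simp [L_apply]
    obtain ⟨ρ, hρ0, h1⟩ := hρ t ht
    obtain ⟨ρ', -, h1'⟩ := hρ (2 * t) (mul_ne_zero h2 ht)
    have hsq : g₀ * U (2 * t) * g₀⁻¹ = g₀ * U t * g₀⁻¹ * (g₀ * U t * g₀⁻¹) := by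
      rw [two_mul, ← U_mul]; group
    have hthird : ∀ z : F, (g₀ * U t * g₀⁻¹) (0, ρ * z, 0) = (0, ρ * z, 2 * ρ * (ρ * z)) := by
      intro z
      obtain ⟨Y, hY⟩ := hx t (ρ * z)
      have e : ∀ z', ((z', ρ * z', ρ ^ 2 * z') : V F) =
          (z', 0, 0) + (0, ρ * z', 0) + (0, 0, ρ ^ 2 * z') := fun z' => by simp
      have hc : ∀ z' Y', (g₀ * U t * g₀⁻¹) (0, ρ * z', 0) = (0, ρ * z', Y') →
          ρ' * z' = 2 * (ρ * z') ∧ ρ' ^ 2 * z' = 2 * (ρ ^ 2 * z') + Y' := by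
        intro z' Y' hY'
        have h := h1' z'
        rw [hsq, Equiv.Perm.mul_apply, h1, e, H.add _ (hrJ t), H.add _ (hrJ t), h1, hY',
          hfixG] at h
        simp only [Prod.mk_add_mk, add_zero, Prod.mk.injEq, true_and] at h
        exact ⟨by linear_combination -h.1, by linear_combination -h.2⟩
      obtain ⟨Y1, hY1⟩ := hx t (ρ * 1)
      have hρ' : ρ' = 2 * ρ := by simpa using (hc 1 Y1 hY1).1
      rw [hY]
      have := (hc z Y hY).2
      rw [hρ'] at this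
      simp only [Prod.mk.injEq, true_and]
      linear_combination -this
    refine ⟨ρ, perm_ext fun z x y => ?_⟩
    have hs : ((z, x, y) : V F) = (z, 0, 0) + (0, ρ * (x / ρ), 0) + (0, 0, y) := by
      rw [mul_div_cancel₀ x hρ0]; simp
    rw [hs, H.add _ (hrJ t), H.add _ (hrJ t), h1, hfixG, hthird, ← hs, L_apply,
      mul_div_cancel₀ x hρ0]
    simp only [Prod.mk_add_mk, add_zero, zero_add, Prod.mk.injEq, true_and]
  have hLJ : ∀ ρ, L ρ ∈ J := by
    choose f hf using hL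
    have hinj : Function.Injective f := by
      intro t t' h
      have e : g₀ * U t * g₀⁻¹ = g₀ * U t' * g₀⁻¹ := by rw [hf, hf, h]
      have e' := mul_left_cancel (mul_right_cancel e)
      exact (UD_inj h2 (show U t * D (1 : Fˣ) = U t' * D 1 by rw [e'])).1
    intro ρ
    obtain ⟨t, rfl⟩ := (Finite.injective_iff_surjective.1 hinj) ρ
    rw [← hf]; exact hrJ t
  set R : Subgroup (Equiv.Perm (V F)) := (Ad (F := F)).range with hRdef
  have hRJ : R ≤ J := by
    rintro _ ⟨g, rfl⟩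
    exact Ad_mem J H.hU hLJ H.hD g
  have hRU : ∀ r, U r ∈ R := fun r => ⟨_, rfl⟩
  have hRD : ∀ a, D a ∈ R := fun a => ⟨_, rfl⟩
  have hscal : ∀ e : F, (he : e ≠ 0) → ∀ z x y : F,
      Ad (mk2 e 0 0 e (by simpa using he)) (z, x, y) = (e ^ 2 * z, e ^ 2 * x, e ^ 2 * y) := by
    intro e he z x y
    simp only [Ad_mk2, adFun, Prod.mk.injEq]
    refine ⟨by ring, by ring, by ring⟩
  -- step 4 : a field automorphism times `±1`
  have hsemi : ∀ (j : Equiv.Perm (V F)) (σ : F → F) (d : F), j ∈ J → d = 1 ∨ d = -1 →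
      σ 1 = 1 → (∀ x y, σ (x * y) = σ x * σ y) → (∀ x y, σ (x + y) = σ x + σ y) →
      (∀ z x y, j (z, x, y) = (d * σ z, d * σ x, d * σ y)) → j ∈ R := by
    intro j σ d hj hd hσ1 hσm hσa hjv
    have hσ0 : σ 0 = 0 := by simpa using hσa 0 0
    rcases hd with rfl | rfl
    · obtain ⟨r, a, rfl⟩ := H.stab j hj 1 one_ne_zero (by rw [hjv, hσ1, hσ0]; simp)
      exact R.mul_mem (hRU r) (hRD a)
    exfalso
    have hσn : ∀ x, σ (-x) = -σ x := fun x =>
      eq_neg_of_add_eq_zero_left (by rw [← hσa, neg_add_cancel, hσ0])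
    have hjj : ∀ z x y, (j * j) (z, x, y) = (σ (σ z), σ (σ x), σ (σ y)) := by
      intro z x y
      simp only [Equiv.Perm.mul_apply, hjv, neg_one_mul, hσn, neg_neg]
    obtain ⟨r, a, hra⟩ := H.stab (j * j) (J.mul_mem hj hj) 1 one_ne_zero
      (by rw [hjj, hσ1, hσ1, hσ0, hσ0])
    have k3 := hjj 0 0 1
    have k2 := hjj 0 1 0
    rw [hra] at k2 k3
    simp only [Equiv.Perm.mul_apply, D_apply, U_apply, hσ0, hσ1, mul_zero, mul_one, add_zero,
      zero_add, Prod.mk.injEq, and_true] at k2 k3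
    obtain ⟨-, ha⟩ := k2
    obtain ⟨-, hr, ha2⟩ := k3
    rw [ha2, mul_one] at hr
    have hσσ : ∀ x, σ (σ x) = x := by
      intro x
      have := hjj 0 x 0
      rw [hra] at this
      simp only [Equiv.Perm.mul_apply, D_apply, U_apply, hσ0, ha, hr, Prod.mk.injEq] at this
      simpa using this.2.1.symm
    have hid : ∀ x, σ x = x := by
      by_contra hne'
      push Not at hne'
      obtain ⟨x₀, hx₀⟩ := hne'
      set e := x₀ - σ x₀ with he
      have he0 : e ≠ 0 := sub_ne_zero.2 (Ne.symm hx₀)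
      have hσe : σ e = -e := by
        rw [he, sub_eq_add_neg, hσa, hσn, hσσ]; ring
      let K : Set F := {x | σ x = x}
      let Φ : K × K → F := fun a => a.1.1 + a.2.1 * e
      have hΦ : Function.Bijective Φ := by
        constructor
        · rintro ⟨⟨a, ha⟩, ⟨b, hb⟩⟩ ⟨⟨a', ha'⟩, ⟨b', hb'⟩⟩ h
          change a + b * e = a' + b' * e at h
          have h' := congrArg σ h
          rw [hσa, hσa, hσm, hσm, show σ a = a from ha, show σ a' = a' from ha', show σ b = b from hb,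
            show σ b' = b' from hb', hσe] at h'
          have e1 : (2 : F) * (a - a') = 0 := by linear_combination h + h'
          have e2 : (2 * e) * (b - b') = 0 := by linear_combination h - h'
          have ha2 := sub_eq_zero.1 ((mul_eq_zero.1 e1).resolve_left h2)
          have hb2 := sub_eq_zero.1 ((mul_eq_zero.1 e2).resolve_left (mul_ne_zero h2 he0))
          subst ha2 hb2
          rfl
        · intro x
          have hσ2 : σ 2 = 2 := by
            rw [← one_add_one_eq_two, hσa, hσ1]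
          have hm : ∀ u v, v ≠ 0 → σ (u / v) = σ u / σ v := by
            intro u v hv
            have hσv : σ v ≠ 0 := fun h => hv (by rw [← hσσ v, h, hσ0])
            rw [eq_div_iff hσv, ← hσm, div_mul_cancel₀ u hv]
          refine ⟨(⟨(x + σ x) / 2, ?_⟩, ⟨(x - σ x) / (2 * e), ?_⟩), ?_⟩
          · show σ _ = _
            rw [hm _ _ h2, hσa, hσσ, hσ2, add_comm]
          · show σ _ = _
            rw [hm _ _ (mul_ne_zero h2 he0), sub_eq_add_neg, hσa, hσn, hσσ, hσm, hσ2, hσe]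
            field_simp
            ring
          · change (x + σ x) / 2 + (x - σ x) / (2 * e) * e = x
            field_simp
            ring
      have hcard := Nat.card_eq_of_bijective Φ hΦ
      rw [Nat.card_prod] at hcard
      have h4 := H.mod_four
      rw [← hcard, Nat.mul_mod] at h4
      have : Nat.card K % 4 < 4 := Nat.mod_lt _ (by norm_num)
      generalize Nat.card K % 4 = k at h4 this
      interval_cases k <;> simp at h4
    obtain ⟨z₁, z₂, hz₁, hz₂, hno⟩ := htwo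
    obtain ⟨e, he, hee⟩ := exists_sq H.mod_four (div_ne_zero hz₂ hz₁)
    have hAd : Ad (mk2 e 0 0 e (by simpa using he)) ∈ J := hRJ ⟨_, rfl⟩
    rcases hee with h | h
    · exact hno _ hAd (by rw [hscal e he, h, mul_zero, div_mul_cancel₀ z₂ hz₁])
    · refine hno _ (J.mul_mem hj hAd) ?_
      rw [Equiv.Perm.mul_apply, hscal e he, hjv, h]
      simp only [hid, mul_zero, Prod.mk.injEq, and_true, neg_mul, one_mul, neg_neg]
      exact div_mul_cancel₀ z₂ hz₁
  -- step 3 : a diagonal element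
  have hdiag : ∀ j ∈ J, S F * j = j * S F → j '' Zl F = Zl F → j ∈ R := by
    intro j hj hjS hjZ
    have hjG : j '' Gr 0 = Gr 0 := by
      have hmem : j '' Gr 0 ∈ T0 J := by
        refine ⟨H.tr_image ⟨g₀, hg₀, hg₀Z⟩ hj, ?_⟩
        rintro _ ⟨v, hv, rfl⟩
        exact hcY j hjS v (hGr.1 hv).2
      rw [hT] at hmem
      rcases hmem with h | h
      · exact absurd (j.injective.image_injective (h.trans hjZ.symm)) hne
      · exact h
    have f1 : ∀ z : F, ∃ a, j (z, 0, 0) = (a, 0, 0) := by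
      intro z
      have h := H.apply_mem_Zl hjZ (v := (z, 0, 0)) ⟨rfl, rfl⟩
      obtain ⟨a, b, c, e⟩ : ∃ a b c, j (z, 0, 0) = (a, b, c) := ⟨_, _, _, rfl⟩
      rw [e] at h ⊢
      obtain ⟨h1, h2⟩ := h
      simp only at h1 h2
      subst h1 h2
      exact ⟨a, rfl⟩
    have f2 : ∀ x : F, ∃ c, j (0, x, 0) = (0, c, 0) := by
      intro x
      have h := hcX j hj hjS (0, x, 0) ⟨rfl, rfl⟩
      obtain ⟨a, b, c, e⟩ : ∃ a b c, j (0, x, 0) = (a, b, c) := ⟨_, _, _, rfl⟩
      rw [e] at h ⊢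
      obtain ⟨h1, h2⟩ := h
      simp only at h1 h2
      subst h1 h2
      exact ⟨b, rfl⟩
    have f3 : ∀ y : F, ∃ d, j (0, 0, y) = (0, 0, d) := by
      intro y
      have h : j (0, 0, y) ∈ Gr (0 : F) := hjG ▸ ⟨(0, 0, y), hGr.2 ⟨rfl, rfl⟩, rfl⟩
      obtain ⟨a, b, c, e⟩ : ∃ a b c, j (0, 0, y) = (a, b, c) := ⟨_, _, _, rfl⟩
      rw [e] at h ⊢
      obtain ⟨rfl, rfl⟩ := hGr.1 h
      exact ⟨c, rfl⟩
    choose A hA using f1
    choose C hC using f2
    choose E hE using f3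
    choose σ₀ hσ₀ using fun r => H.conj_U hj hjZ r
    have hadd : ∀ r y, (A (r ^ 2 * y) = σ₀ r ^ 2 * E y) ∧ C (r * y) = σ₀ r * E y := by
      intro r y
      have hs : U r (0, 0, y) = (r ^ 2 * y, 0, 0) + (0, r * y, 0) + (0, 0, y) := by simp [U_apply]
      have h := congrArg (fun f : Equiv.Perm (V F) => f (0, 0, y)) (hσ₀ r)
      simp only [Equiv.Perm.mul_apply, hE] at h
      rw [hs, H.add j hj, H.add j hj, hA, hC, hE, U_apply] at h
      simp only [Prod.mk_add_mk, add_zero, zero_add, mul_zero, Prod.mk.injEq, and_true] at h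
      exact h
    have hC0 : C 0 = 0 := by
      have h := hC 0
      rw [show ((0, 0, 0) : V F) = 0 from rfl, H.map_zero hj] at h
      exact (congrArg (fun v : V F => v.2.1) h).symm
    have hu : σ₀ 1 ≠ 0 := by
      intro h0
      have h := (hadd 1 1).2
      rw [h0, zero_mul, mul_one] at h
      have e := hC 1
      rw [h, show ((0, 0, 0) : V F) = j 0 from (H.map_zero hj).symm] at e
      exact one_ne_zero (congrArg (fun v : V F => v.2.1) (j.injective e))
    set u := Units.mk0 (σ₀ 1) hu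
    have hEC : ∀ y, C y = σ₀ 1 * E y := fun y => by simpa using (hadd 1 y).2
    have hEA : ∀ y, A y = σ₀ 1 ^ 2 * E y := fun y => by simpa using (hadd 1 y).1
    set d := σ₀ 1 ^ 2 * E 1 with hd_def
    set σ : F → F := fun r => σ₀ r / σ₀ 1 with hσdef
    -- `D (σ₀ 1) * j` is `σ` scaled by `d`
    have hval : ∀ y, σ₀ 1 ^ 2 * E y = σ y * d := by
      intro y
      have h := (hadd y 1).2
      rw [mul_one, hEC] at h
      simp only [hσdef, hd_def]
      field_simp
      linear_combination h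
    have hd0 : d ≠ 0 := by
      refine mul_ne_zero (pow_ne_zero _ hu) fun h0 => ?_
      have e := hE 1
      rw [h0, show ((0, 0, 0) : V F) = j 0 from (H.map_zero hj).symm] at e
      exact one_ne_zero (congrArg (fun v : V F => v.2.2) (j.injective e))
    have hσm : ∀ r y, σ (r * y) = σ r * σ y := by
      intro r y
      have h := (hadd r y).2
      rw [hEC] at h
      have h1 := hval (r * y)
      have h2 := hval y
      have h3 : σ r * σ₀ 1 = σ₀ r := by simp [hσdef, hu]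
      have : (σ (r * y) - σ r * σ y) * d = 0 := by
        linear_combination σ₀ 1 * h - h1 + σ r * h2 - σ₀ 1 * E y * h3
      exact sub_eq_zero.1 ((mul_eq_zero.1 this).resolve_right hd0)
    have hEadd : ∀ r y, E (r + y) = E r + E y := by
      intro r y
      have h := hE (r + y)
      rw [show ((0, 0, r + y) : V F) = (0, 0, r) + (0, 0, y) by simp, H.add j hj, hE, hE] at h
      simpa using h.symm
    have hσa : ∀ r y, σ (r + y) = σ r + σ y := by
      intro r y
      have h1 := hval (r + y)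
      rw [hEadd, mul_add, hval, hval] at h1
      exact mul_right_cancel₀ hd0 (by linear_combination -h1)
    have hσ1 : σ 1 = 1 := by simp [hσdef, hu]
    have hjv : ∀ z x y, (D u * j) (z, x, y) = (d * σ z, d * σ x, d * σ y) := by
      intro z x y
      have hs : ((z, x, y) : V F) = (z, 0, 0) + (0, x, 0) + (0, 0, y) := by simp
      rw [Equiv.Perm.mul_apply, hs, H.add j hj, H.add j hj, hA, hC, hE]
      simp only [Prod.mk_add_mk, add_zero, zero_add, D_apply, u, Units.val_mk0, Prod.mk.injEq]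
      refine ⟨?_, ?_, ?_⟩
      · rw [hEA]; linear_combination hval z
      · rw [hEC]; linear_combination hval x
      · linear_combination hval y
    obtain ⟨e, he, hee⟩ := exists_sq H.mod_four (inv_ne_zero hd0)
    have hmem : Ad (mk2 e 0 0 e (by simpa using he)) * (D u * j) ∈ R := by
      refine hsemi _ σ (e ^ 2 * d)
        (J.mul_mem (hRJ ⟨_, rfl⟩) (J.mul_mem (H.hD u) hj)) ?_ hσ1 hσm hσa ?_
      · rcases hee with h | h <;> rw [h]
        · exact Or.inl (inv_mul_cancel₀ hd0)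
        · exact Or.inr (by rw [neg_mul, inv_mul_cancel₀ hd0])
      · intro z x y
        rw [Equiv.Perm.mul_apply, hjv, hscal e he]
        simp only [Prod.mk.injEq]
        refine ⟨by ring, by ring, by ring⟩
    have hA' : Ad (mk2 e 0 0 e (by simpa using he)) ∈ R := ⟨_, rfl⟩
    exact (R.mul_mem_cancel_left (hRD u)).1 ((R.mul_mem_cancel_left hA').1 hmem)
  -- step 2 : an element preserving the first line
  have hline : ∀ j ∈ J, j '' Zl F = Zl F → j ∈ R := by
    intro j hj hjZ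
    have hfix : (j * S F * j⁻¹) (1, 0, 0) = (1, 0, 0) := by
      obtain ⟨w, hw, hwe⟩ : ((1, 0, 0) : V F) ∈ j '' Zl F := by rw [hjZ]; exact ⟨rfl, rfl⟩
      rw [← hwe, Equiv.Perm.mul_apply, Equiv.Perm.mul_apply, inv_app, S, D_fix _ hw]
    have hinv : j * S F * j⁻¹ * (j * S F * j⁻¹) = 1 := by
      calc j * S F * j⁻¹ * (j * S F * j⁻¹) = j * (S F * S F) * j⁻¹ := by group
        _ = 1 := by rw [S_mul_self]; group
    have hne' : j * S F * j⁻¹ ≠ 1 := by
      intro h
      have h1 : S F = 1 := by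
        calc S F = j⁻¹ * (j * S F * j⁻¹) * j := by group
          _ = 1 := by rw [h]; group
      have e := congrArg (fun f : Equiv.Perm (V F) => f (0, 1, 0)) h1
      simp only [S_apply, Equiv.Perm.coe_one, id_eq, Prod.mk.injEq, true_and, and_true] at e
      exact h2 (by linear_combination -e)
    obtain ⟨c, -, hc⟩ := H.invol_fix (J.mul_mem (J.mul_mem hj H.S_mem) (J.inv_mem hj)) hinv hne'
      one_ne_zero hfix
    have hS : S F * (U (-c) * j) = U (-c) * j * S F := by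
      calc S F * (U (-c) * j) = U (-c) * (U c * S F * U (-c)) * j := by
            rw [← U_inv c]; group
        _ = U (-c) * j * S F := by rw [← hc]; group
    exact (R.mul_mem_cancel_left (hRU (-c))).1 (hdiag _ (J.mul_mem (H.hU _) hj) hS
      (by rw [image_mul, hjZ, image_U_Zl]))
  refine le_antisymm (fun j hj => ?_) hRJ
  by_cases hjZ : j '' Zl F = Zl F
  · exact hline j hj hjZ
  obtain ⟨r, hr1, hr2⟩ := H.exists_U_T0 ⟨j, hj, rfl⟩ hjZ
  rw [hT] at hr1
  have hr : U r '' (j '' Zl F) = Gr 0 := hr1.resolve_left hr2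
  set w := Ad (mk2 (0 : F) 1 1 0 (by simp)) with hw
  have hwR : w ∈ R := ⟨_, rfl⟩
  have hwG : w '' Gr 0 = Zl F := by
    ext ⟨z, x, y⟩
    constructor
    · rintro ⟨⟨a, b, c⟩, hv, he⟩
      obtain ⟨h1, h2⟩ := hGr.1 hv
      simp only at h1 h2
      subst h1 h2
      simp only [hw, Ad_mk2, adFun, Prod.mk.injEq] at he
      exact ⟨by simp [← he.2.1], by simp [← he.2.2]⟩
    · rintro ⟨h1, h2⟩
      simp only at h1 h2
      subst h1 h2
      exact ⟨(0, 0, z), hGr.2 ⟨rfl, rfl⟩, by simp [hw, Ad_mk2, adFun]⟩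
  have := hline (w * (U r * j)) (J.mul_mem (hRJ hwR) (J.mul_mem (H.hU r) hj))
    (by rw [image_mul, image_mul, hr, hwG])
  exact (R.mul_mem_cancel_left (hRU r)).1 ((R.mul_mem_cancel_left hwR).1 this)

/-- The classification of the local group. -/
theorem classify [Finite F]
    (hmove : ∃ g ∈ J, (g : V F → V F) '' Zl F ≠ Zl F)
    (htwo : ∃ z₁ z₂ : F, z₁ ≠ 0 ∧ z₂ ≠ 0 ∧ ∀ j ∈ J, j (z₁, 0, 0) ≠ (z₂, 0, 0)) :
    Nonempty (↥J ≃* ↥(Ad (F := F)).range) := by
  obtain ⟨c, hc, hT, hne⟩ := H.exists_two hmove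
  set J' := J.map (MulAut.conj (mu c)).toMonoidHom with hJ'
  have hcomm : ∀ (r : F) (a : Fˣ), mu c * (U r * D a) * (mu c)⁻¹ = U r * D a := by
    intro r a
    rw [mul_inv_eq_iff_eq_mul]
    refine perm_ext fun z x y => ?_
    simp only [Equiv.Perm.mul_apply, D_apply, U_apply, mu_apply, Prod.mk.injEq]
    refine ⟨?_, trivial⟩
    rcases hc with rfl | hc
    · ring
    · rw [hc a]; ring
  have hmem : ∀ j, j ∈ J' ↔ ∃ g ∈ J, mu c * g * (mu c)⁻¹ = j := fun j => Iff.rfl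
  have hmuZ : ∀ z : F, mu c (z, 0, 0) = (z, 0, 0) := fun z => by simp [mu_apply]
  have hmuI : ∀ z : F, (mu c)⁻¹ (z, 0, 0) = (z, 0, 0) := fun z => by
    rw [Equiv.Perm.inv_eq_iff_eq, hmuZ]
  have hadd : ∀ v w : V F, mu c (v + w) = mu c v + mu c w := by
    rintro ⟨z, x, y⟩ ⟨z', x', y'⟩
    simp only [Prod.mk_add_mk, mu_apply, Prod.mk.injEq, and_true]
    ring
  have H' : Hyp p n J' := by
    refine ⟨H.prime, H.odd, H.card, H.mod_four, ?_, ?_, ?_, ?_, ?_⟩
    · rintro j ⟨g, hg, rfl⟩ v w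
      have hi : ∀ v w : V F, (mu c)⁻¹ (v + w) = (mu c)⁻¹ v + (mu c)⁻¹ w := fun v w => by
        rw [Equiv.Perm.inv_eq_iff_eq, hadd, app_inv, app_inv]
      simp only [MulEquiv.coe_toMonoidHom, MulAut.conj_apply, Equiv.Perm.mul_apply, hi,
        H.add g hg, hadd]
    · intro r
      exact (hmem _).2 ⟨U r * D 1, J.mul_mem (H.hU r) (H.hD 1),
        by rw [hcomm, D_one, mul_one]⟩
    · intro a
      exact (hmem _).2 ⟨U 0 * D a, J.mul_mem (H.hU 0) (H.hD a),
        by rw [hcomm, U_zero, one_mul]⟩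
    · intro j hj z hz hfix
      obtain ⟨g, hg, rfl⟩ := (hmem j).1 hj
      have hgfix : g (z, 0, 0) = (z, 0, 0) := by
        rw [Equiv.Perm.mul_apply, Equiv.Perm.mul_apply, hmuI] at hfix
        have := congrArg (⇑((mu c)⁻¹ : Equiv.Perm (V F))) hfix
        rwa [inv_app, hmuI] at this
      obtain ⟨r, a, rfl⟩ := H.stab g hg z hz hgfix
      exact ⟨r, a, hcomm r a⟩
    · rw [hJ', ← Nat.card_congr
        (J.equivMapOfInjective _ (MulAut.conj (mu c)).injective).toEquiv]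
      exact H.pp
  have hmuimg : mu c '' Zl F = Zl F := by
    ext ⟨z, x, y⟩
    constructor
    · rintro ⟨⟨a, b, d⟩, ⟨h1, h2⟩, he⟩
      simp only at h1 h2
      subst h1 h2
      rw [hmuZ] at he
      simp only [Prod.mk.injEq] at he
      exact ⟨he.2.1.symm, he.2.2.symm⟩
    · rintro ⟨h1, h2⟩
      simp only at h1 h2
      subst h1 h2
      exact ⟨_, ⟨rfl, rfl⟩, hmuZ z⟩
  have hmuGr : mu c '' Gr c = Gr 0 := by
    ext ⟨z, x, y⟩
    constructor
    · rintro ⟨⟨a, b, d⟩, ⟨h1, h2⟩, he⟩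
      simp only at h1 h2
      subst h1 h2
      simp only [mu_apply, sub_self, Prod.mk.injEq] at he
      exact ⟨by simp [← he.1], he.2.1.symm⟩
    · rintro ⟨h1, h2⟩
      simp only [zero_mul] at h1 h2
      subst h1 h2
      exact ⟨(c * y, 0, y), ⟨rfl, rfl⟩, by simp [mu_apply]⟩
  have hT' : T0 J' = {Zl F, Gr 0} := by
    ext T
    have key : T ∈ T0 J' ↔ ∃ T' ∈ T0 J, mu c '' T' = T := by
      constructor
      · rintro ⟨⟨j, hj, rfl⟩, hY⟩
        obtain ⟨g, hg, rfl⟩ := (hmem j).1 hj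
        refine ⟨g '' Zl F, ⟨⟨g, hg, rfl⟩, ?_⟩, ?_⟩
        · rintro _ ⟨v, hv, rfl⟩
          have h : mu c (g v) ∈ Yl F := hY ⟨mu c v, by
            rw [← hmuimg]; exact ⟨v, hv, rfl⟩, by
            simp [Equiv.Perm.mul_apply]⟩
          obtain ⟨a, b, d, e⟩ : ∃ a b d, g v = (a, b, d) := ⟨_, _, _, rfl⟩
          rw [e] at h ⊢
          exact h
        · have hinv : ⇑((mu c)⁻¹ : Equiv.Perm (V F)) '' Zl F = Zl F := by
            conv_lhs => rw [← hmuimg, ← image_mul, inv_mul_cancel]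
            simp
          rw [image_mul, image_mul, hinv]
      · rintro ⟨T', ⟨⟨g, hg, rfl⟩, hY⟩, rfl⟩
        refine ⟨⟨mu c * g * (mu c)⁻¹, (hmem _).2 ⟨g, hg, rfl⟩, ?_⟩, ?_⟩
        · have hinv : ⇑((mu c)⁻¹ : Equiv.Perm (V F)) '' Zl F = Zl F := by
            conv_lhs => rw [← hmuimg, ← image_mul, inv_mul_cancel]
            simp
          rw [image_mul, image_mul, hinv]
        · rintro _ ⟨⟨a, b, d⟩, hv, rfl⟩
          exact @hY (a, b, d) hv
    rw [key, hT]
    constructor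
    · rintro ⟨T', (rfl | rfl), rfl⟩
      exacts [Or.inl hmuimg, Or.inr hmuGr]
    · rintro (rfl | rfl)
      exacts [⟨_, Or.inl rfl, hmuimg⟩, ⟨_, Or.inr rfl, hmuGr⟩]
  have hne0 : Gr (0 : F) ≠ Zl F := by
    intro h
    exact hne ((mu c).injective.image_injective (hmuGr.trans (h.trans hmuimg.symm)))
  have htwo' : ∃ z₁ z₂ : F, z₁ ≠ 0 ∧ z₂ ≠ 0 ∧ ∀ j ∈ J', j (z₁, 0, 0) ≠ (z₂, 0, 0) := by
    obtain ⟨z₁, z₂, h1, h2, hno⟩ := htwo
    refine ⟨z₁, z₂, h1, h2, fun j hj h => ?_⟩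
    obtain ⟨g, hg, rfl⟩ := (hmem j).1 hj
    rw [Equiv.Perm.mul_apply, Equiv.Perm.mul_apply, hmuI] at h
    have := congrArg (⇑((mu c)⁻¹ : Equiv.Perm (V F))) h
    rw [inv_app, hmuI] at this
    exact hno g hg this
  exact ⟨(J.equivMapOfInjective _ (MulAut.conj (mu c)).injective).trans
    (MulEquiv.subgroupCongr (H'.eq_range hT' hne0 htwo'))⟩

end Hyp

/-- The image of `GL₂` is `PGL₂ × C_((q-1)/2)`. -/
theorem range_equiv [Finite F] (h4 : Nat.card F % 4 = 3) :
    Nonempty (↥(Ad (F := F)).range ≃*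
      (Matrix.ProjGenLinGroup (Fin 2) F × Multiplicative (ZMod ((Nat.card F - 1) / 2)))) := by
  classical
  haveI := Fintype.ofFinite F
  let Q : Subgroup Fˣ := (powMonoidHom 2 : Fˣ →* Fˣ).range
  let Φ : GL (Fin 2) F →* Matrix.ProjGenLinGroup (Fin 2) F × Q :=
    Matrix.ProjGenLinGroup.mk.prod
      ((powMonoidHom 2 : Fˣ →* Fˣ).rangeRestrict.comp Matrix.GeneralLinearGroup.det)
  have hn1 : ¬ IsSquare (-1 : F) := fun h =>
    FiniteField.isSquare_neg_one_iff.1 h (by rwa [← Nat.card_eq_fintype_card])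
  have hdet : ∀ g : GL (Fin 2) F, ((Matrix.GeneralLinearGroup.det g : Fˣ) : F) =
      g.1 0 0 * g.1 1 1 - g.1 0 1 * g.1 1 0 := fun g => by
    rw [Matrix.GeneralLinearGroup.val_det_apply, Matrix.det_fin_two]
  have hΦ2 : ∀ g, Φ g = 1 ↔ Matrix.ProjGenLinGroup.mk g = 1 ∧
      ((Matrix.GeneralLinearGroup.det g : Fˣ) : F) ^ 2 = 1 := by
    intro g
    constructor
    · intro h
      refine ⟨congrArg Prod.fst h, ?_⟩
      have := congrArg (fun a => ((a : Q) : Fˣ)) (congrArg Prod.snd h)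
      have e : (Matrix.GeneralLinearGroup.det g) ^ 2 = 1 := this
      rw [← Units.val_pow_eq_pow_val, e, Units.val_one]
    · rintro ⟨h1, h2⟩
      refine Prod.ext h1 (Subtype.ext (Units.ext ?_))
      simpa [Φ] using h2
  have hker : (Ad (F := F)).ker = Φ.ker := by
    ext g
    rw [MonoidHom.mem_ker, MonoidHom.mem_ker, Ad_eq_one, hΦ2, Matrix.ProjGenLinGroup.mk_eq_one,
      Matrix.GeneralLinearGroup.center_eq_range_scalar, MonoidHom.mem_range, hdet]
    constructor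
    · rintro ⟨hb, hc, hd, ha⟩
      refine ⟨⟨Units.mk0 (g.1 0 0) (fun h => by simp [h] at ha), ?_⟩, ?_⟩
      · ext i j
        fin_cases i <;> fin_cases j <;> simp [hb, hc, ← hd]
      · rw [hb, hc, ← hd]
        linear_combination (g.1 0 0 ^ 2 + 1) * ha
    · rintro ⟨⟨u, rfl⟩, h⟩
      simp only [Matrix.GeneralLinearGroup.coe_scalar, Matrix.scalar_apply, Matrix.diagonal_apply,
        zero_ne_one, one_ne_zero, if_true, if_false] at h ⊢
      refine ⟨trivial, trivial, trivial, ?_⟩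
      have : ((u : F) ^ 2 - 1) * ((u : F) ^ 2 + 1) = 0 := by linear_combination h
      rcases mul_eq_zero.1 this with h' | h'
      · linear_combination h'
      · exact absurd ⟨(u : F), by linear_combination -h'⟩ hn1
  have hsurj : Function.Surjective Φ := by
    rintro ⟨P, ⟨_, ⟨s, rfl⟩⟩⟩
    obtain ⟨M, rfl⟩ := Matrix.ProjGenLinGroup.mk_surjective P
    have hD0 : (s : F) / ((Matrix.GeneralLinearGroup.det M : Fˣ) : F) ≠ 0 :=
      div_ne_zero s.ne_zero (Units.ne_zero _)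
    obtain ⟨e, he, hee⟩ := exists_sq h4 hD0
    refine ⟨M * Matrix.GeneralLinearGroup.scalar (Fin 2) (Units.mk0 e he), Prod.ext ?_ ?_⟩
    · simp [Φ]
    · apply Subtype.ext
      change (Matrix.GeneralLinearGroup.det
        (M * Matrix.GeneralLinearGroup.scalar (Fin 2) (Units.mk0 e he))) ^ 2 = s ^ 2
      apply Units.ext
      have hne := Units.ne_zero (Matrix.GeneralLinearGroup.det M)
      rw [Units.val_pow_eq_pow_val, map_mul, Units.val_mul, mul_pow, Units.val_pow_eq_pow_val]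
      have hs : ((Matrix.GeneralLinearGroup.det
          (Matrix.GeneralLinearGroup.scalar (Fin 2) (Units.mk0 e he)) : Fˣ) : F) = e ^ 2 := by
        simp [Matrix.GeneralLinearGroup.val_det_apply, pow_two]
      rw [hs]
      rcases hee with h | h <;> rw [h] <;> field_simp
  have hQcard : Nat.card Q = (Nat.card F - 1) / 2 := by
    change Nat.card (powMonoidHom 2 : Fˣ →* Fˣ).range = _
    rw [IsCyclic.card_powMonoidHom_range, Nat.card_units, Nat.gcd_eq_right (by omega)]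
  exact ⟨((QuotientGroup.quotientKerEquivRange Ad).symm.trans
    ((QuotientGroup.quotientMulEquivOfEq hker).trans
      (QuotientGroup.quotientKerEquivOfSurjective Φ hsurj))).trans
    (MulEquiv.prodCongr (MulEquiv.refl _)
      (mulEquivOfCyclicCardEq (by rw [hQcard, Nat.card_congr Multiplicative.toAdd, Nat.card_zmod])))⟩

end Cfsg.Agent.Lib.PSp4Local4
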