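import Mathlib

/-!
# Symmetric `2 × 2` matrices as a module for `GL₂`

`(z, x, y)` stands for the symmetric matrix with rows `(z, x)` and `(x, y)`; a matrix `A` acts by
`X ↦ A X Aᵀ`.
-/

set_option autoImplicit false
set_option linter.unusedSectionVars false

namespace Cfsg.Agent.Lib.PSp4Local4

universe u

variable {F : Type u} [Field F]

/-- Symmetric matrices. -/
abbrev V (F : Type u) := F × F × F

/-- The action of a matrix with rows `(a, b)`, `(c, d)`. -/
def adFun (a b c d : F) (v : V F) : V F :=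
  (a ^ 2 * v.1 + 2 * a * b * v.2.1 + b ^ 2 * v.2.2,
    a * c * v.1 + (a * d + b * c) * v.2.1 + b * d * v.2.2,
    c ^ 2 * v.1 + 2 * c * d * v.2.1 + d ^ 2 * v.2.2)

theorem adFun_comp (a b c d a' b' c' d' : F) (v : V F) :
    adFun a b c d (adFun a' b' c' d' v) =
      adFun (a * a' + b * c') (a * b' + b * d') (c * a' + d * c') (c * b' + d * d') v := by
  simp only [adFun, Prod.mk.injEq]
  refine ⟨?_, ?_, ?_⟩ <;> ring

theorem adFun_one (v : V F) : adFun 1 0 0 1 v = v := by
  simp [adFun]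

theorem adFun_add (a b c d : F) (v w : V F) :
    adFun a b c d (v + w) = adFun a b c d v + adFun a b c d w := by
  simp only [adFun, Prod.fst_add, Prod.snd_add, Prod.mk_add_mk, Prod.mk.injEq]
  refine ⟨?_, ?_, ?_⟩ <;> ring

/-- The matrix acting by congruence, as a function. -/
def adMat (A : Matrix (Fin 2) (Fin 2) F) : V F → V F := adFun (A 0 0) (A 0 1) (A 1 0) (A 1 1)

theorem adMat_mul (A B : Matrix (Fin 2) (Fin 2) F) (v : V F) :
    adMat (A * B) v = adMat A (adMat B v) := by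
  simp only [adMat, adFun_comp, Matrix.mul_apply, Fin.sum_univ_two]

theorem adMat_one (v : V F) : adMat (1 : Matrix (Fin 2) (Fin 2) F) v = v := by
  simp [adMat, adFun]

/-- Congruence as a homomorphism. -/
def Ad : GL (Fin 2) F →* Equiv.Perm (V F) where
  toFun g :=
    { toFun := adMat g.1
      invFun := adMat (g⁻¹).1
      left_inv := fun v => by rw [← adMat_mul, Units.inv_mul, adMat_one]
      right_inv := fun v => by rw [← adMat_mul, Units.mul_inv, adMat_one] }
  map_one' := Equiv.ext fun v => adMat_one v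
  map_mul' g h := Equiv.ext fun v => adMat_mul g.1 h.1 v

theorem Ad_apply (g : GL (Fin 2) F) (v : V F) :
    Ad g v = adFun (g.1 0 0) (g.1 0 1) (g.1 1 0) (g.1 1 1) v := rfl

/-- An element of `GL₂` from its entries. -/
noncomputable def mk2 (a b c d : F) (h : a * d - b * c ≠ 0) : GL (Fin 2) F :=
  Matrix.GeneralLinearGroup.mkOfDetNeZero !![a, b; c, d] (by rw [Matrix.det_fin_two_of]; exact h)

theorem Ad_mk2 (a b c d : F) (h : a * d - b * c ≠ 0) (v : V F) :
    Ad (mk2 a b c d h) v = adFun a b c d v := rfl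

/-- Upper unitriangular. -/
noncomputable def gU (r : F) : GL (Fin 2) F := mk2 1 r 0 1 (by simp)

/-- Lower unitriangular. -/
noncomputable def gL (r : F) : GL (Fin 2) F := mk2 1 0 r 1 (by simp)

/-- `diag(1, a)`. -/
noncomputable def gD (a : Fˣ) : GL (Fin 2) F := mk2 1 0 0 (a : F) (by simp)

/-- The upper unipotents. -/
noncomputable def U (r : F) : Equiv.Perm (V F) := Ad (gU r)

/-- The lower unipotents. -/
noncomputable def L (r : F) : Equiv.Perm (V F) := Ad (gL r)

/-- The torus. -/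
noncomputable def D (a : Fˣ) : Equiv.Perm (V F) := Ad (gD a)

theorem U_apply (r z x y : F) : U r (z, x, y) = (z + 2 * r * x + r ^ 2 * y, x + r * y, y) := by
  simp [U, gU, Ad_mk2, adFun]

theorem L_apply (r z x y : F) : L r (z, x, y) = (z, r * z + x, r ^ 2 * z + 2 * r * x + y) := by
  simp [L, gL, Ad_mk2, adFun]

theorem D_apply (a : Fˣ) (z x y : F) :
    D a (z, x, y) = (z, (a : F) * x, (a : F) ^ 2 * y) := by
  simp [D, gD, Ad_mk2, adFun]

theorem perm_ext {f g : Equiv.Perm (V F)} (h : ∀ z x y : F, f (z, x, y) = g (z, x, y)) : f = g :=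
  Equiv.ext fun ⟨z, x, y⟩ => h z x y

theorem U_zero : U (0 : F) = 1 := perm_ext fun z x y => by simp [U_apply]

theorem U_mul (r s : F) : U r * U s = U (r + s) := perm_ext fun z x y => by
  simp only [Equiv.Perm.mul_apply, U_apply, Prod.mk.injEq]
  refine ⟨by ring, by ring, trivial⟩

theorem U_inv (r : F) : (U r)⁻¹ = U (-r) := by
  rw [inv_eq_iff_mul_eq_one, U_mul, add_neg_cancel, U_zero]

theorem D_one : D (1 : Fˣ) = 1 := perm_ext fun z x y => by simp [D_apply]

theorem D_mul (a b : Fˣ) : D a * D b = D (a * b) := perm_ext fun z x y => by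
  simp only [Equiv.Perm.mul_apply, D_apply, Units.val_mul, Prod.mk.injEq]
  refine ⟨trivial, by ring, by ring⟩

theorem D_mul_U (a : Fˣ) (r : F) : D a * U r = U (r / (a : F)) * D a := perm_ext fun z x y => by
  have := a.ne_zero
  simp only [Equiv.Perm.mul_apply, U_apply, D_apply, Prod.mk.injEq]
  refine ⟨by field_simp, by field_simp, trivial⟩

/-- The reflection `diag(1,-1)`. -/
noncomputable def S (F : Type u) [Field F] : Equiv.Perm (V F) := D (-1 : Fˣ)

theorem S_apply (z x y : F) : S F (z, x, y) = (z, -x, y) := by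
  simp [S, D_apply]

theorem S_mul_self : S F * S F = 1 := by
  rw [S, D_mul, neg_mul_neg, one_mul, D_one]

theorem S_mul_U (r : F) : S F * U r = U (-r) * S F := by
  rw [S, D_mul_U]; simp [div_neg]

section Generation

variable (J : Subgroup (Equiv.Perm (V F)))

/-- A group containing both root groups and the torus contains the image of `GL₂`. -/
theorem Ad_mem (hU : ∀ r, U r ∈ J) (hL : ∀ r, L r ∈ J) (hD : ∀ a, D a ∈ J) (g : GL (Fin 2) F) :
    Ad g ∈ J := by
  have hW : Ad (mk2 (0 : F) 1 (-1) 0 (by simp)) ∈ J := by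
    have : Ad (mk2 (0 : F) 1 (-1) 0 (by simp)) = U 1 * L (-1) * U 1 := perm_ext fun z x y => by
      simp only [Equiv.Perm.mul_apply, U_apply, L_apply, Ad_mk2, adFun, Prod.mk.injEq]
      refine ⟨by ring, by ring, by ring⟩
    rw [this]; exact J.mul_mem (J.mul_mem (hU 1) (hL _)) (hU 1)
  have key : ∀ (a b c d : F) (h : a * d - b * c ≠ 0), a ≠ 0 → Ad (mk2 a b c d h) ∈ J := by
    intro a b c d h ha
    have hd : d - b * c / a ≠ 0 := fun h0 => h (by field_simp at h0; linear_combination h0)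
    have hA : Ad (mk2 a 0 0 1 (by simpa using ha)) ∈ J := by
      have : Ad (mk2 a 0 0 1 (by simpa using ha)) =
          Ad (mk2 (0 : F) 1 (-1) 0 (by simp)) * D (Units.mk0 a ha) *
            Ad (mk2 (0 : F) 1 (-1) 0 (by simp)) := perm_ext fun z x y => by
        simp only [Equiv.Perm.mul_apply, D_apply, Ad_mk2, adFun, Units.val_mk0, Prod.mk.injEq]
        refine ⟨by ring, by ring, by ring⟩
      rw [this]; exact J.mul_mem (J.mul_mem hW (hD _)) hW
    have : Ad (mk2 a b c d h) = L (c / a) * (Ad (mk2 a 0 0 1 (by simpa using ha)) *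
        D (Units.mk0 _ hd)) * U (b / a) := perm_ext fun z x y => by
      simp only [Equiv.Perm.mul_apply, U_apply, L_apply, D_apply, Ad_mk2, adFun, Units.val_mk0,
        Prod.mk.injEq]
      refine ⟨?_, ?_, ?_⟩ <;> field_simp <;> ring
    rw [this]
    exact J.mul_mem (J.mul_mem (hL _) (J.mul_mem hA (hD _))) (hU _)
  by_cases ha : g.1 0 0 = 0
  · have hdet : g.1 0 0 * g.1 1 1 - g.1 0 1 * g.1 1 0 ≠ 0 := by
      rw [← Matrix.det_fin_two]; exact (Matrix.isUnit_iff_isUnit_det _).1 g.isUnit |>.ne_zero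
    have hc : g.1 1 0 ≠ 0 := fun h0 => hdet (by rw [ha, h0]; ring)
    have h' : g.1 1 0 * (-g.1 0 1) - g.1 1 1 * (-g.1 0 0) ≠ 0 := fun h0 =>
      hdet (by linear_combination h0)
    have h2 := key _ _ _ _ h' hc
    have : Ad g = (Ad (mk2 (0 : F) 1 (-1) 0 (by simp)))⁻¹ *
        Ad (mk2 (g.1 1 0) (g.1 1 1) (-g.1 0 0) (-g.1 0 1) h') := by
      rw [eq_inv_mul_iff_mul_eq]
      refine perm_ext fun z x y => ?_
      simp only [Equiv.Perm.mul_apply, Ad_mk2]
      simp only [Ad_apply, adFun, Prod.mk.injEq]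
      refine ⟨by ring, by ring, by ring⟩
    rw [this]; exact J.mul_mem (J.inv_mem hW) h2
  · have hdet : g.1 0 0 * g.1 1 1 - g.1 0 1 * g.1 1 0 ≠ 0 := by
      rw [← Matrix.det_fin_two]; exact (Matrix.isUnit_iff_isUnit_det _).1 g.isUnit |>.ne_zero
    have : Ad g = Ad (mk2 _ _ _ _ hdet) := Equiv.ext fun v => rfl
    rw [this]; exact key _ _ _ _ hdet ha

end Generation

/-- The kernel is `±1`. -/
theorem Ad_eq_one (g : GL (Fin 2) F) :
    Ad g = 1 ↔ g.1 0 1 = 0 ∧ g.1 1 0 = 0 ∧ g.1 0 0 = g.1 1 1 ∧ g.1 0 0 ^ 2 = 1 := by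
  constructor
  · intro h
    have e1 := congrArg (fun f : Equiv.Perm (V F) => f (1, 0, 0)) h
    have e2 := congrArg (fun f : Equiv.Perm (V F) => f (0, 1, 0)) h
    have e3 := congrArg (fun f : Equiv.Perm (V F) => f (0, 0, 1)) h
    simp only [Ad_apply, adFun, Equiv.Perm.coe_one, id_eq, mul_one, mul_zero, add_zero, zero_add,
      Prod.mk.injEq] at e1 e2 e3
    obtain ⟨a1, -, c1⟩ := e1
    obtain ⟨-, m2, -⟩ := e2
    obtain ⟨b3, -, -⟩ := e3
    have hb : g.1 0 1 = 0 := pow_eq_zero_iff two_ne_zero |>.1 b3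
    have hc : g.1 1 0 = 0 := pow_eq_zero_iff two_ne_zero |>.1 c1
    refine ⟨hb, hc, ?_, a1⟩
    rw [hb, hc, mul_zero, add_zero] at m2
    calc g.1 0 0 = g.1 0 0 * (g.1 0 0 * g.1 1 1) := by rw [m2, mul_one]
      _ = g.1 0 0 ^ 2 * g.1 1 1 := by ring
      _ = g.1 1 1 := by rw [a1, one_mul]
  · rintro ⟨hb, hc, hd, ha⟩
    refine perm_ext fun z x y => ?_
    simp only [Ad_apply, adFun, Equiv.Perm.coe_one, id_eq, hb, hc, ← hd, Prod.mk.injEq]
    refine ⟨?_, ?_, ?_⟩
    · linear_combination z * ha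
    · linear_combination x * ha
    · linear_combination y * ha

end Cfsg.Agent.Lib.PSp4Local4
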