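import Cfsg.Agent.Lib.PSp4Class.Elements
import Cfsg.Agent.Lib.PSp4Local4.Model

/-!
# The stabiliser of a vector in `Sp₄` and its relation to a transvection

`St` is the stabiliser of the first basis vector, `U0` its standard Sylow subgroup of order `q⁴`,
`up` the elementary abelian subgroup of order `q³`.
-/

set_option autoImplicit false
set_option linter.unusedSectionVars false
set_option linter.style.haveILetI false

namespace Cfsg.Agent.Lib.PSp4Local4

open Matrix
open scoped Pointwise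
open Cfsg.Agent.Lib.PSp4Class (Sp4 Dm Dm_val Up)

universe u

variable {F : Type u} [Field F]

/-- The symmetric matrix of coordinates. -/
def Xm (v : V F) : Matrix (Fin 2) (Fin 2) F := !![v.1, v.2.1; v.2.1, v.2.2]

theorem Xm_symm (v : V F) : (Xm v)ᵀ = Xm v := by
  ext i j; fin_cases i <;> fin_cases j <;> rfl

theorem Xm_congr (g : GL (Fin 2) F) (v : V F) : g.1 * Xm v * g.1ᵀ = Xm (Ad g v) := by
  ext i j
  fin_cases i <;> fin_cases j <;>
    simp [Xm, Ad_apply, adFun, Matrix.mul_apply, Fin.sum_univ_two] <;> ring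

theorem Xm_inj {v w : V F} (h : Xm v = Xm w) : v = w := by
  have h00 := congrFun (congrFun h 0) 0
  have h01 := congrFun (congrFun h 0) 1
  have h11 := congrFun (congrFun h 1) 1
  simp [Xm] at h00 h01 h11
  exact Prod.ext h00 (Prod.ext h01 h11)

theorem exists_Xm {X : Matrix (Fin 2) (Fin 2) F} (h : Xᵀ = X) : ∃ v, Xm v = X := by
  refine ⟨(X 0 0, X 0 1, X 1 1), ?_⟩
  have h10 : X 0 1 = X 1 0 := by
    have := congrFun (congrFun h 1) 0
    simpa using this
  ext i j
  fin_cases i <;> fin_cases j <;> simp [Xm, h10]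

/-- The elementary abelian subgroup, as a map. -/
def up (v : V F) : Sp4 F := Up (Xm v) (Xm_symm v)

theorem up_val (v : V F) : (up v).1 = fromBlocks 1 (Xm v) 0 1 := rfl

theorem up_add (v w : V F) : up (v + w) = up v * up w := by
  refine Subtype.ext ?_
  show fromBlocks 1 _ 0 1 = fromBlocks 1 _ 0 1 * fromBlocks 1 _ 0 1
  simp only [fromBlocks_multiply, Matrix.mul_one, Matrix.one_mul, Matrix.zero_mul, Matrix.mul_zero,
    add_zero, zero_add, fromBlocks_inj, true_and, and_true]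
  ext i j
  fin_cases i <;> fin_cases j <;> simp [Xm] <;> ring

theorem up_zero : up (0 : V F) = 1 := by
  have h := up_add (0 : V F) 0
  rw [add_zero] at h
  exact left_eq_mul.1 h

theorem up_neg (v : V F) : up (-v) = (up v)⁻¹ :=
  eq_inv_of_mul_eq_one_left (by rw [← up_add, neg_add_cancel, up_zero])

theorem up_inj {v w : V F} (h : up v = up w) : v = w := by
  have := congrArg (fun g : Sp4 F => g.1.toBlocks₁₂) h
  simp only [up_val, toBlocks_fromBlocks₁₂] at this
  exact Xm_inj this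

theorem up_comm (v w : V F) : up v * up w = up w * up v := by
  rw [← up_add, ← up_add, add_comm]

theorem Dm_mul_up (g : GL (Fin 2) F) (v : V F) : Dm g * up v = up (Ad g v) * Dm g := by
  refine Subtype.ext ?_
  show fromBlocks g.1 0 0 _ * fromBlocks 1 (Xm v) 0 1 = fromBlocks 1 (Xm (Ad g v)) 0 1 * fromBlocks g.1 0 0 _
  simp only [fromBlocks_multiply, Matrix.mul_one, Matrix.one_mul, Matrix.zero_mul, Matrix.mul_zero,
    add_zero, zero_add, fromBlocks_inj, true_and, and_true]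
  rw [← Xm_congr, mul_assoc, PSp4Class.mul_inv_valT, Matrix.mul_one]

theorem conj_up (g : GL (Fin 2) F) (v w : V F) :
    Dm g * up w * up v * (Dm g * up w)⁻¹ = up (Ad g v) := by
  rw [mul_assoc (Dm g), up_comm w v, ← mul_assoc (Dm g), Dm_mul_up g v]
  group

theorem Dm_up_inj {g g' : GL (Fin 2) F} {v w : V F} (h : Dm g * up v = Dm g' * up w) :
    g = g' ∧ v = w := by
  have h1 := congrArg (fun s : Sp4 F => s.1.toBlocks₁₁) h
  simp only [Submonoid.coe_mul, Dm_val, up_val, fromBlocks_multiply, toBlocks_fromBlocks₁₁,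
    Matrix.mul_one, Matrix.mul_zero, add_zero] at h1
  have hg : g = g' := Units.ext h1
  subst hg
  exact ⟨rfl, up_inj (mul_left_cancel h)⟩

theorem gU_mul (r s : F) : gU r * gU s = gU (r + s) := by
  refine Units.ext ?_
  ext i j
  fin_cases i <;> fin_cases j <;> simp [gU, mk2, add_comm]

theorem gU_zero : gU (0 : F) = 1 := by
  have h := gU_mul (0 : F) 0
  rw [add_zero] at h
  exact mul_eq_left.1 h

theorem gU_inj {r s : F} (h : gU r = gU s) : r = s := by
  have := congrArg (fun g : GL (Fin 2) F => g.1 0 1) h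
  simpa [gU, mk2] using this

theorem gD_one : gD (1 : Fˣ) = (1 : GL (Fin 2) F) := by
  refine Units.ext ?_
  ext i j
  fin_cases i <;> fin_cases j <;> simp [gD, mk2]

/-- The first coordinate. -/
abbrev i0 : Fin 2 ⊕ Fin 2 := Sum.inl 0

/-- The partner of the first coordinate. -/
abbrev j0 : Fin 2 ⊕ Fin 2 := Sum.inr 0

/-- The stabiliser of the first basis vector. -/
def St (F : Type u) [Field F] : Subgroup (Sp4 F) where
  carrier := {g | g.1 *ᵥ Pi.single i0 1 = Pi.single i0 1}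
  one_mem' := by
    show (1 : Sp4 F).1 *ᵥ _ = _
    rw [OneMemClass.coe_one, one_mulVec]
  mul_mem' := fun {a b} ha hb => by
    show (a * b).1 *ᵥ _ = _
    rw [Submonoid.coe_mul, ← mulVec_mulVec, hb, ha]
  inv_mem' := fun {a} ha => by
    show (a⁻¹).1 *ᵥ _ = _
    conv_lhs => rw [← ha]
    rw [mulVec_mulVec, ← Submonoid.coe_mul, inv_mul_cancel, OneMemClass.coe_one, one_mulVec]

theorem mem_St {g : Sp4 F} :
    g ∈ St F ↔ ∀ i, g.1 i i0 = (Pi.single i0 1 : Fin 2 ⊕ Fin 2 → F) i := by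
  show g.1 *ᵥ Pi.single i0 1 = _ ↔ _
  rw [mulVec_single_one, funext_iff]
  rfl

theorem up_mem_St (v : V F) : up v ∈ St F := by
  rw [mem_St]
  intro i
  rcases i with i | i <;> fin_cases i <;> simp [up_val]

theorem Dm_mem_St {g : GL (Fin 2) F} (h1 : g.1 0 0 = 1) (h2 : g.1 1 0 = 0) : Dm g ∈ St F := by
  rw [mem_St]
  intro i
  rcases i with i | i <;> fin_cases i <;> simp [Dm_val, h1, h2]

theorem gUD_mem_St (r : F) (a : Fˣ) : Dm (gU r * gD a) ∈ St F :=
  Dm_mem_St (by simp [gU, gD, mk2]) (by simp [gU, gD, mk2])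

theorem gU_mem_St (r : F) : Dm (gU r) ∈ St F := by
  simpa [gD_one] using gUD_mem_St r 1

theorem gD_mem_St (a : Fˣ) : Dm (gD a) ∈ St F := by
  simpa [gU_zero] using gUD_mem_St 0 a

/-- The standard Sylow subgroup. -/
def U0 (F : Type u) [Field F] : Subgroup (Sp4 F) where
  carrier := {g | ∃ r v, g = Dm (gU r) * up v}
  one_mem' := ⟨0, 0, by rw [gU_zero, map_one, up_zero, one_mul]⟩
  mul_mem' := by
    rintro _ _ ⟨r, v, rfl⟩ ⟨s, w, rfl⟩
    refine ⟨r + s, Ad (gU s)⁻¹ v + w, ?_⟩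
    rw [← gU_mul, map_mul, up_add]
    have h := Dm_mul_up (gU s) (Ad (gU s)⁻¹ v)
    rw [← Equiv.Perm.mul_apply, ← map_mul, mul_inv_cancel, map_one, Equiv.Perm.one_apply] at h
    simp only [mul_assoc]
    rw [← mul_assoc (up v), ← h]
    simp only [mul_assoc]
  inv_mem' := by
    rintro _ ⟨r, v, rfl⟩
    refine ⟨-r, Ad (gU r) (-v), ?_⟩
    rw [_root_.mul_inv_rev, ← up_neg]
    have h := Dm_mul_up (gU r) (-v)
    have hinv : Dm (gU (-r)) = (Dm (gU r))⁻¹ := by
      refine eq_inv_of_mul_eq_one_left ?_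
      rw [← map_mul, gU_mul, neg_add_cancel, gU_zero, map_one]
    rw [hinv, eq_inv_mul_iff_mul_eq, ← mul_assoc, h, mul_inv_cancel_right]

theorem U0_le_St : U0 F ≤ St F := by
  rintro _ ⟨r, v, rfl⟩
  exact (St F).mul_mem (gU_mem_St r) (up_mem_St v)

theorem up_mem_U0 (v : V F) : up v ∈ U0 F := ⟨0, v, by rw [gU_zero, map_one, one_mul]⟩

theorem gU_mem_U0 (r : F) : Dm (gU r) ∈ U0 F := ⟨r, 0, by rw [up_zero, mul_one]⟩

theorem card_U0 : Nat.card (U0 F) = Nat.card F ^ 4 := by
  let Φ : F × V F → U0 F := fun a => ⟨Dm (gU a.1) * up a.2, a.1, a.2, rfl⟩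
  have hΦ : Function.Bijective Φ := by
    constructor
    · rintro ⟨r, v⟩ ⟨s, w⟩ h
      obtain ⟨h1, h2⟩ := Dm_up_inj (congrArg Subtype.val h)
      exact Prod.ext (gU_inj h1) h2
    · rintro ⟨_, r, v, rfl⟩
      exact ⟨(r, v), rfl⟩
  rw [← Nat.card_eq_of_bijective Φ hΦ, Nat.card_prod, Nat.card_prod, Nat.card_prod]
  ring

theorem U0_center {g : Sp4 F} (h2 : (2 : F) ≠ 0) (hg : g ∈ U0 F)
    (hc : g ∈ Subgroup.center (Sp4 F)) : g = 1 := by
  rcases Symplectic.mem_center_sp_iff.1 hc with h | h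
  · exact Subtype.ext h
  · exfalso
    have h1 := mem_St.1 (U0_le_St hg) i0
    rw [h] at h1
    simp at h1
    exact h2 (by linear_combination -h1)

/-- The entries of the inverse. -/
theorem inv_inl_inl (g : Sp4 F) (a b : Fin 2) :
    (g⁻¹).1 (Sum.inl a) (Sum.inl b) = g.1 (Sum.inr b) (Sum.inr a) := by
  rw [SymplecticGroup.coe_inv]
  simp [Matrix.J, Matrix.mul_apply, Fintype.sum_sum_type, Matrix.one_apply]

theorem inv_inr_inl (g : Sp4 F) (a b : Fin 2) :
    (g⁻¹).1 (Sum.inr a) (Sum.inl b) = -g.1 (Sum.inr b) (Sum.inl a) := by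
  rw [SymplecticGroup.coe_inv]
  simp [Matrix.J, Matrix.mul_apply, Fintype.sum_sum_type, Matrix.one_apply]

/-- The transvection. -/
theorem up_line (c : F) : (up (c, 0, 0)).1 = 1 + Matrix.single i0 j0 c := by
  ext i j
  rcases i with i | i <;> rcases j with j | j <;> fin_cases i <;> fin_cases j <;>
    simp [up_val, Xm, Matrix.one_apply]

theorem comm_line_iff (g : Sp4 F) (c : F) :
    g * up (c, 0, 0) = up (c, 0, 0) * g ↔
      g.1 * Matrix.single i0 j0 c = Matrix.single i0 j0 c * g.1 := by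
  rw [Subtype.ext_iff, Submonoid.coe_mul, Submonoid.coe_mul, up_line, mul_add, add_mul, mul_one,
    one_mul, add_right_inj]

theorem St_comm {g : Sp4 F} (hg : g ∈ St F) (c : F) : g * up (c, 0, 0) = up (c, 0, 0) * g := by
  rw [comm_line_iff]
  have hcol := mem_St.1 hg
  have hinv := mem_St.1 ((St F).inv_mem hg)
  have hrow : ∀ b, g.1 j0 b = (Pi.single j0 1 : Fin 2 ⊕ Fin 2 → F) b := by
    rintro (b | b)
    · have := hinv (Sum.inr b)
      rw [inv_inr_inl] at this
      simpa using this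
    · have := hinv (Sum.inl b)
      rw [inv_inl_inl] at this
      rw [this]
      simp [Pi.single_apply]
  ext a b
  by_cases hb : b = j0
  · subst hb
    by_cases ha : a = i0
    · subst ha
      rw [Matrix.mul_single_apply_same, Matrix.single_mul_apply_same, hcol, hrow]
      simp
    · rw [Matrix.mul_single_apply_same, Matrix.single_mul_apply_of_ne _ _ _ _ _ ha, hcol]
      simp [ha]
  · by_cases ha : a = i0
    · subst ha
      rw [Matrix.mul_single_apply_of_ne _ _ _ _ _ hb, Matrix.single_mul_apply_same, hrow]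
      simp [hb]
    · rw [Matrix.mul_single_apply_of_ne _ _ _ _ _ hb, Matrix.single_mul_apply_of_ne _ _ _ _ _ ha]

/-- The centraliser of a transvection is `± St`. -/
theorem comm_St {g : Sp4 F} {c : F} (hc : c ≠ 0) (h : g * up (c, 0, 0) = up (c, 0, 0) * g) :
    ∃ z ∈ Subgroup.center (Sp4 F), z * g ∈ St F := by
  rw [comm_line_iff] at h
  have e1 : ∀ a, a ≠ i0 → g.1 a i0 = 0 := by
    intro a ha
    have := congrFun (congrFun h a) j0
    rw [Matrix.mul_single_apply_same, Matrix.single_mul_apply_of_ne _ _ _ _ _ ha] at this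
    exact (mul_eq_zero.1 this).resolve_right hc
  have e2 : g.1 i0 i0 = g.1 j0 j0 := by
    have := congrFun (congrFun h i0) j0
    rw [Matrix.mul_single_apply_same, Matrix.single_mul_apply_same] at this
    exact mul_left_cancel₀ hc (by linear_combination this)
  have e3 : g.1 i0 i0 * g.1 i0 i0 = 1 := by
    have h1 : (g⁻¹.1 * g.1) i0 i0 = 1 := by
      rw [← Submonoid.coe_mul, inv_mul_cancel]; simp
    rw [Matrix.mul_apply, Finset.sum_eq_single i0 (fun a _ ha => by rw [e1 a ha, mul_zero])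
      (by simp), inv_inl_inl, ← e2] at h1
    exact h1
  rcases mul_self_eq_one_iff.1 e3 with h' | h'
  · refine ⟨1, Subgroup.one_mem _, mem_St.2 fun a => ?_⟩
    rw [one_mul]
    by_cases ha : a = i0
    · subst ha; simp [h']
    · rw [e1 a ha]; simp [ha]
  · refine ⟨⟨-1, SymplecticGroup.neg_mem (Submonoid.one_mem _)⟩, Symplectic.mem_center_sp_iff.2 (Or.inr rfl), mem_St.2 fun a => ?_⟩
    rw [Submonoid.coe_mul]
    show ((-1 : Matrix (Fin 2 ⊕ Fin 2) (Fin 2 ⊕ Fin 2) F) * g.1) a i0 = _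
    rw [neg_one_mul, Matrix.neg_apply]
    by_cases ha : a = i0
    · subst ha; simp [h']
    · rw [e1 a ha]; simp [ha]

/-- Commuting up to sign is commuting. -/
theorem comm_of_center {g : Sp4 F} {c : F} (h2 : (2 : F) ≠ 0) {z : Sp4 F}
    (hz : z ∈ Subgroup.center (Sp4 F)) (h : g * up (c, 0, 0) = z * (up (c, 0, 0) * g)) :
    g * up (c, 0, 0) = up (c, 0, 0) * g := by
  rcases Symplectic.mem_center_sp_iff.1 hz with h1 | h1
  · rw [h, show z = 1 from Subtype.ext h1, one_mul]
  · exfalso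
    have h3 : (g * up (c, 0, 0) * g⁻¹).1 = -(up (c, 0, 0)).1 := by
      rw [h, mul_assoc, mul_inv_cancel_right, Submonoid.coe_mul, h1, neg_one_mul]
    have h4 := congrArg Matrix.trace h3
    rw [Submonoid.coe_mul, Matrix.trace_mul_comm, ← Submonoid.coe_mul, inv_mul_cancel_left,
      Matrix.trace_neg] at h4
    have h5 : (up (c, 0, 0)).1.trace = 4 := by
      simp [Matrix.trace, up_val, Fintype.sum_sum_type]
      norm_num
    rw [h5] at h4
    have : (2 : F) * 2 * 2 = 0 := by linear_combination h4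
    exact h2 (by simpa using this)

/-- An element normalising the elementary abelian subgroup is block triangular. -/
theorem exists_form {g : Sp4 F} (hg : g ∈ St F) {w : V F}
    (h : g * up (1, 0, 1) = up w * g) : ∃ r a v, g = Dm (gU r * gD a) * up v := by
  have hX : Xm ((1, 0, 1) : V F) = 1 := by
    ext i j; fin_cases i <;> fin_cases j <;> simp [Xm]
  have h21 : g.1.toBlocks₂₁ = 0 := by
    have e := congrArg (fun s : Sp4 F => s.1.toBlocks₂₂) h
    simp only [Submonoid.coe_mul, up_val, hX] at e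
    rw [← fromBlocks_toBlocks g.1] at e
    simp only [fromBlocks_multiply, toBlocks_fromBlocks₂₂, Matrix.mul_one, Matrix.one_mul,
      Matrix.zero_mul, zero_add, add_eq_right] at e
    exact e
  obtain ⟨A, S, he, hA⟩ := Forms.SpParabolic.exists_mkSp g h21
  obtain ⟨v, hv⟩ := exists_Xm S.2
  have hgv : g = Dm A * up v := by
    rw [← he]
    refine Subtype.ext ?_
    show fromBlocks A.1 (A.1 * S.1) 0 _ = fromBlocks A.1 0 0 _ * fromBlocks 1 (Xm v) 0 1
    simp [fromBlocks_multiply, hv]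
  have h00 : A.1 0 0 = 1 := by
    rw [hA]; have := mem_St.1 hg i0; simpa [toBlocks₁₁] using this
  have h10 : A.1 1 0 = 0 := by
    rw [hA]; have := mem_St.1 hg (Sum.inl 1); simpa [toBlocks₁₁] using this
  have h11 : A.1 1 1 ≠ 0 := by
    intro h0
    have hdet := ((Matrix.isUnit_iff_isUnit_det _).1 A.isUnit).ne_zero
    rw [Matrix.det_fin_two, h10, h0] at hdet
    exact hdet (by ring)
  refine ⟨A.1 0 1 / A.1 1 1, Units.mk0 _ h11, v, ?_⟩
  rw [hgv]
  congr 2
  refine Units.ext ?_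
  ext i j
  fin_cases i <;> fin_cases j <;> simp [gU, gD, mk2, h00, h10, h11]

/-- Commutative subgroups of `U0` of order above `q²` lie in the elementary abelian one. -/
theorem le_up [Finite F] (h2 : (2 : F) ≠ 0) {A : Subgroup (Sp4 F)} (hA : A ≤ U0 F)
    (hc : ∀ a ∈ A, ∀ b ∈ A, a * b = b * a) (hcard : Nat.card F ^ 2 < Nat.card A) :
    ∀ a ∈ A, ∃ v, a = up v := by
  have hform : ∀ a : A, ∃ r v, (a : Sp4 F) = Dm (gU r) * up v := fun a => hA a.2
  choose r v hrv using hform
  by_contra hne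
  push Not at hne
  obtain ⟨a, ha, hav⟩ := hne
  have hr0 : r ⟨a, ha⟩ ≠ 0 := fun h => hav (v ⟨a, ha⟩)
    ((hrv ⟨a, ha⟩).trans (by rw [h, gU_zero, map_one, one_mul]))
  -- fibres of `r` have at most `q` elements
  have hinj : Function.Injective (fun b : A => (r b, (v b).1)) := by
    intro b b' hbb
    obtain ⟨e1, e2⟩ := Prod.mk.injEq _ _ _ _ ▸ hbb
    have hd : (b⁻¹ * b' : A).1 = up (-(v b) + v b') := by
      rw [Subgroup.coe_mul, Subgroup.coe_inv, hrv b, hrv b', e1, up_add, up_neg]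
      group
    have hcm := hc a ha _ (b⁻¹ * b' : A).2
    rw [hd, show a = _ from hrv ⟨a, ha⟩, mul_assoc, up_comm, ← mul_assoc, Dm_mul_up] at hcm
    rw [← mul_assoc] at hcm
    have hfix := up_inj (mul_right_cancel (mul_right_cancel hcm))
    obtain ⟨z, x, y, hw⟩ : ∃ z x y, -(v b) + v b' = (z, x, y) := ⟨_, _, _, rfl⟩
    rw [hw] at hfix
    have h' : U (r ⟨a, ha⟩) (z, x, y) = (z, x, y) := hfix
    simp only [U_apply, Prod.mk.injEq, add_eq_left, mul_eq_zero, hr0, false_or, and_true] at h'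
    obtain ⟨h3, hy⟩ := h'
    rw [hy] at h3
    have hx : x = 0 := by
      have h4 : (2 * r ⟨a, ha⟩) * x = 0 := by linear_combination h3
      exact (mul_eq_zero.1 h4).resolve_left (mul_ne_zero h2 hr0)
    have hz : z = 0 := by
      have := congrArg Prod.fst hw
      simp only [Prod.fst_add, Prod.fst_neg] at this
      rw [← this, e2, neg_add_cancel]
    subst hx hy hz
    have : b⁻¹ * b' = 1 := Subtype.ext (by rw [hd, hw]; exact up_zero)
    exact inv_mul_eq_one.1 this
  have := Nat.card_le_card_of_injective _ hinj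
  rw [Nat.card_prod, ← pow_two] at this
  omega

/-- The centre of `U0`. -/
theorem center_U0 (h2 : (2 : F) ≠ 0) {g : Sp4 F} (hg : g ∈ U0 F)
    (hc : ∀ w ∈ U0 F, g * w = w * g) : ∃ c, g = up (c, 0, 0) := by
  obtain ⟨r, v, rfl⟩ := hg
  have h1 := hc _ (up_mem_U0 (0, 0, 1))
  rw [mul_assoc, up_comm, ← mul_assoc, Dm_mul_up, mul_assoc] at h1
  have h1' := up_inj (mul_right_cancel h1)
  change U r (0, 0, 1) = (0, 0, 1) at h1'
  simp only [U_apply, mul_one, mul_zero, add_zero, zero_add, Prod.mk.injEq, and_true] at h1'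
  obtain ⟨-, rfl⟩ := h1'
  rw [gU_zero, map_one, one_mul] at hc ⊢
  have h3 := hc _ (gU_mem_U0 1)
  rw [Dm_mul_up] at h3
  have h3' : v = U (1 : F) v := up_inj (mul_right_cancel h3)
  obtain ⟨z, x, y⟩ := v
  simp only [U_apply, mul_one, one_pow, one_mul, Prod.mk.injEq, left_eq_add, and_true] at h3'
  obtain ⟨h4, hy⟩ := h3'
  subst hy
  have h5 : (2 : F) * x = 0 := by linear_combination -h4
  rw [(mul_eq_zero.1 h5).resolve_left h2]
  exact ⟨z, rfl⟩

theorem not_pow_dvd_card {p n : ℕ} [Finite F] (hp : p.Prime) (hn : n ≠ 0)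
    (hF : Nat.card F = p ^ n) : ¬ p ^ (4 * n + 1) ∣ Nat.card (Sp4 F) := by
  rw [Symplectic.card_sp hF 2]
  have hnd : ∀ k, k ≠ 0 → ¬ p ∣ (p ^ n) ^ k - 1 := by
    intro k hk hd
    have h1 : p ∣ (p ^ n) ^ k := (dvd_pow_self p hn).trans (dvd_pow_self _ hk)
    have hpos : 1 ≤ (p ^ n) ^ k := Nat.one_le_pow _ _ (pow_pos hp.pos _)
    have := Nat.dvd_sub h1 hd
    rw [show (p ^ n) ^ k - ((p ^ n) ^ k - 1) = 1 by omega] at this
    exact hp.ne_one (Nat.dvd_one.1 this)
  intro hd
  simp only [Finset.prod_range_succ, Finset.prod_range_zero, one_mul] at hd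
  rw [← pow_mul, show n * 2 ^ 2 = 4 * n by ring, pow_succ] at hd
  have := Nat.dvd_of_mul_dvd_mul_left (pow_pos hp.pos _) hd
  rcases hp.dvd_mul.1 this with h | h
  · exact hnd _ (by norm_num) h
  · exact hnd _ (by norm_num) h

/-- A subgroup of full `p`-power order is Sylow. -/
theorem exists_sylow {G : Type*} [Group G] [Finite G] {p k : ℕ} [Fact p.Prime] {H : Subgroup G}
    (hH : Nat.card H = p ^ k) (hk : ¬ p ^ (k + 1) ∣ Nat.card G) :
    ∃ S : Sylow p G, (S : Subgroup G) = H := by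
  obtain ⟨S, hS⟩ := (IsPGroup.of_card hH).exists_le_sylow
  refine ⟨S, (Subgroup.eq_of_le_of_card_ge hS ?_).symm⟩
  obtain ⟨m, hm⟩ := IsPGroup.iff_card.1 S.isPGroup'
  rw [hm, hH]
  refine Nat.pow_le_pow_right (Fact.out : p.Prime).pos ?_
  by_contra hlt
  exact hk ((pow_dvd_pow p (by omega : k + 1 ≤ m)).trans
    (hm ▸ Subgroup.card_subgroup_dvd_card (S : Subgroup G)))

/-- The centraliser of a `p`-central element of order `p` in `PSp₄` is `St`. -/
theorem centralizer_equiv [Finite F] {p n : ℕ} [Fact p.Prime] (hn : n ≠ 0) (h2 : (2 : F) ≠ 0)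
    (hF : Nat.card F = p ^ n) {x : Cfsg.PSp 2 F} (hx : x ≠ 1) (Px : Sylow p (Cfsg.PSp 2 F))
    (hxP : x ∈ (Px : Subgroup (Cfsg.PSp 2 F)))
    (hxc : ∀ y ∈ (Px : Subgroup (Cfsg.PSp 2 F)), y * x = x * y) :
    Nonempty (↥(Subgroup.centralizer ({x} : Set (Cfsg.PSp 2 F))) ≃* ↥(St F)) := by
  have hp : p.Prime := Fact.out
  haveI : Finite (Matrix (Fin 2 ⊕ Fin 2) (Fin 2 ⊕ Fin 2) F) :=
    inferInstanceAs (Finite (Fin 2 ⊕ Fin 2 → Fin 2 ⊕ Fin 2 → F))
  let π : Sp4 F →* Cfsg.PSp 2 F := QuotientGroup.mk' _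
  have hπ : ∀ {g : Sp4 F}, π g = 1 ↔ g ∈ Subgroup.center (Sp4 F) :=
    fun {g} => QuotientGroup.eq_one_iff g
  have hπU : Function.Injective (π.comp (U0 F).subtype) := by
    rw [injective_iff_map_eq_one]
    intro g hg
    exact Subtype.ext (U0_center h2 g.2 (hπ.1 hg))
  have hcard : Nat.card ((U0 F).map π) = p ^ (4 * n) := by
    rw [show (U0 F).map π = (π.comp (U0 F).subtype).range by
      rw [MonoidHom.range_comp, Subgroup.range_subtype],
      ← Nat.card_congr (MonoidHom.ofInjective hπU).toEquiv, card_U0, hF, ← pow_mul, mul_comm]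
  obtain ⟨S, hS⟩ := exists_sylow hcard (fun hd =>
    not_pow_dvd_card (F := F) hp hn hF (hd.trans (Subgroup.card_quotient_dvd_card _)))
  obtain ⟨k, hk⟩ := MulAction.exists_smul_eq (Cfsg.PSp 2 F) Px S
  have hk' : (S : Subgroup (Cfsg.PSp 2 F)) = MulAut.conj k • (Px : Subgroup (Cfsg.PSp 2 F)) := by
    rw [← hk, Sylow.coe_subgroup_smul]
  have hmem : ∀ y, y ∈ (U0 F).map π ↔ k⁻¹ * y * k ∈ (Px : Subgroup (Cfsg.PSp 2 F)) := fun y => by
    rw [← hS, hk', Subgroup.mem_pointwise_smul_iff_inv_smul_mem]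
    simp [MulAut.smul_def, mul_assoc]
  obtain ⟨u, hu, hux⟩ : k * x * k⁻¹ ∈ (U0 F).map π := (hmem _).2 (by
    simpa [mul_assoc] using hxP)
  have hucen : ∀ w ∈ U0 F, u * w = w * u := by
    intro w hw
    have h1 := hxc _ ((hmem (π w)).1 ⟨w, hw, rfl⟩)
    have h2' : π (u * w * u⁻¹ * w⁻¹) = 1 := by
      simp only [map_mul, map_inv, hux]
      calc k * x * k⁻¹ * π w * (k * x * k⁻¹)⁻¹ * (π w)⁻¹
          = k * (x * (k⁻¹ * π w * k)) * x⁻¹ * k⁻¹ * (π w)⁻¹ := by group
        _ = k * (k⁻¹ * π w * k * x) * x⁻¹ * k⁻¹ * (π w)⁻¹ := by rw [h1]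
        _ = 1 := by group
    have h3 := U0_center h2 ((U0 F).mul_mem ((U0 F).mul_mem ((U0 F).mul_mem hu hw)
      ((U0 F).inv_mem hu)) ((U0 F).inv_mem hw)) (hπ.1 h2')
    rwa [mul_inv_eq_one, mul_inv_eq_iff_eq_mul] at h3
  obtain ⟨c, rfl⟩ := center_U0 h2 hu hucen
  have hc : c ≠ 0 := by
    rintro rfl
    rw [show ((0, 0, 0) : V F) = 0 from rfl, up_zero, map_one] at hux
    exact hx (conj_eq_one_iff.1 hux.symm)
  have hmemC : ∀ g ∈ St F, π g ∈ Subgroup.centralizer ({π (up (c, 0, 0))} : Set (Cfsg.PSp 2 F)) := by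
    intro g hg
    rw [Subgroup.mem_centralizer_singleton_iff, ← map_mul, ← map_mul, St_comm hg c]
  let φ : ↥(St F) →* ↥(Subgroup.centralizer ({π (up (c, 0, 0))} : Set (Cfsg.PSp 2 F))) :=
    (π.comp (St F).subtype).codRestrict _ fun g => hmemC g.1 g.2
  have hφ : Function.Bijective φ := by
    constructor
    · rw [injective_iff_map_eq_one]
      intro g hg
      have hc' := hπ.1 (show π g.1 = 1 from congrArg Subtype.val hg)
      rcases Symplectic.mem_center_sp_iff.1 hc' with h | h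
      · exact Subtype.ext (Subtype.ext h)
      · exfalso
        have h1 := mem_St.1 g.2 i0
        rw [h] at h1
        simp at h1
        exact h2 (by linear_combination -h1)
    · rintro ⟨y, hy⟩
      obtain ⟨g, rfl⟩ := QuotientGroup.mk'_surjective _ y
      rw [Subgroup.mem_centralizer_singleton_iff] at hy
      have hy' : π (g * up (c, 0, 0) * (up (c, 0, 0) * g)⁻¹) = 1 := by
        rw [map_mul, map_inv, map_mul, map_mul]
        exact mul_inv_eq_one.2 hy
      have hcomm := comm_of_center h2 (hπ.1 hy') (inv_mul_cancel_right _ _).symm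
      obtain ⟨z, hz, hzg⟩ := comm_St hc hcomm
      refine ⟨⟨z * g, hzg⟩, Subtype.ext ?_⟩
      show π (z * g) = π g
      rw [map_mul, hπ.2 hz, one_mul]
  have e1 : (Subgroup.centralizer ({x} : Set (Cfsg.PSp 2 F))).map (MulAut.conj k).toMonoidHom =
      Subgroup.centralizer ({π (up (c, 0, 0))} : Set (Cfsg.PSp 2 F)) := by
    ext y
    rw [hux, Subgroup.mem_map_equiv, Subgroup.mem_centralizer_singleton_iff,
      Subgroup.mem_centralizer_singleton_iff, MulAut.conj_symm_apply]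
    constructor
    · intro h
      calc y * (k * x * k⁻¹) = k * (k⁻¹ * y * k * x) * k⁻¹ := by group
        _ = k * (x * (k⁻¹ * y * k)) * k⁻¹ := by rw [h]
        _ = k * x * k⁻¹ * y := by group
    · intro h
      calc k⁻¹ * y * k * x = k⁻¹ * (y * (k * x * k⁻¹)) * k := by group
        _ = k⁻¹ * (k * x * k⁻¹ * y) * k := by rw [h]
        _ = x * (k⁻¹ * y * k) := by group
  exact ⟨((MulEquiv.subgroupMap (MulAut.conj k) _).trans (MulEquiv.subgroupCongr e1)).trans
    (MulEquiv.ofBijective φ hφ).symm⟩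

end Cfsg.Agent.Lib.PSp4Local4
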