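import Cfsg.Agent.Lib.PSp4Local4.Sp
import Cfsg.Agent.Lib.PSp4Local4.Forced
import Cfsg.Agent.Lib.Cores.Gaschutz

/-!
# The local subgroup in the abstract group
-/

set_option autoImplicit false
set_option linter.unusedSectionVars false
set_option linter.style.haveILetI false

namespace Cfsg.Agent.Lib.PSp4Local4

open Matrix
open scoped Pointwise
open Cfsg.Agent.Lib.PSp4Class (Sp4 Dm)

universe u v

/-- The local subgroup and its complement. -/
theorem main {G : Type v} [Group G] [Finite G] {F : Type u} [Field F] [Finite F] {p n : ℕ}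
    [Fact p.Prime] (hp : p ≠ 2) (hn : n ≠ 0) (hq4 : p ^ n % 4 = 3) (hF : Nat.card F = p ^ n)
    (α : G) (e : ↥(Subgroup.centralizer ({α} : Set G)) ≃* ↥(St F))
    (hb : ∀ z ∈ Subgroup.centralizer ({α} : Set G), z ≠ 1 →
      (∀ c ∈ Subgroup.centralizer ({α} : Set G), c * z = z * c) →
      Subgroup.centralizer ({z} : Set G) = Subgroup.centralizer ({α} : Set G))
    (hc : ∃ (u v : G) (Pu Pv : Sylow p G), orderOf u = p ∧ orderOf v = p ∧
      u ∈ (Pu : Subgroup G) ∧ (∀ y ∈ (Pu : Subgroup G), y * u = u * y) ∧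
      v ∈ (Pv : Subgroup G) ∧ (∀ y ∈ (Pv : Subgroup G), y * v = v * y) ∧ ∀ g : G, g * u * g⁻¹ ≠ v)
    (P : Sylow p G) (hP : (P : Subgroup G) ≤ Subgroup.centralizer ({α} : Set G))
    (M : Subgroup G) (hMP : M ≤ P) (hMc : IsMulCommutative ↥M) (hMcard : Nat.card ↥M = p ^ (3 * n))
    (hnc : ∃ Q R : Sylow p ↥(Subgroup.normalizer (M : Set G)), Q ≠ R) :
    ∃ J : Subgroup G, J ≤ Subgroup.normalizer (M : Set G) ∧ M ⊔ J = Subgroup.normalizer (M : Set G) ∧
      M ⊓ J = ⊥ ∧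
      Nonempty (↥J ≃* (Matrix.ProjGenLinGroup (Fin 2) F × Multiplicative (ZMod ((p ^ n - 1) / 2)))) := by
  classical
  have hpr : p.Prime := Fact.out
  haveI : Finite (Matrix (Fin 2 ⊕ Fin 2) (Fin 2 ⊕ Fin 2) F) :=
    inferInstanceAs (Finite (Fin 2 ⊕ Fin 2 → Fin 2 ⊕ Fin 2 → F))
  have h2 : (2 : F) ≠ 0 := by
    haveI := Fintype.ofFinite F
    haveI : CharP F p := charP_of_card_eq_prime_pow (by rw [← Nat.card_eq_fintype_card, hF])
    intro h
    have h' : ((2 : ℕ) : F) = 0 := by exact_mod_cast h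
    rw [CharP.cast_eq_zero_iff F p] at h'
    exact hp ((Nat.prime_dvd_prime_iff_eq hpr Nat.prime_two).1 h')
  -- the embedding with `U0 ↦ P`
  let ι₀ : ↥(St F) →* G := (Subgroup.centralizer ({α} : Set G)).subtype.comp e.symm.toMonoidHom
  have hι₀ : Function.Injective ι₀ := Subtype.val_injective.comp e.symm.injective
  let U0s : Subgroup (St F) := (U0 F).subgroupOf (St F)
  have hU0s : Nat.card U0s = p ^ (4 * n) := by
    rw [Nat.card_congr (Subgroup.subgroupOfEquivOfLe U0_le_St).toEquiv, card_U0, hF, ← pow_mul,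
      mul_comm]
  have hStnd : ¬ p ^ (4 * n + 1) ∣ Nat.card (St F) := fun hd =>
    not_pow_dvd_card (F := F) hpr hn hF (hd.trans (Subgroup.card_subgroup_dvd_card _))
  obtain ⟨S0, hS0⟩ := exists_sylow hU0s hStnd
  obtain ⟨R, hR⟩ := (P.isPGroup'.comap_of_injective ι₀ hι₀).exists_le_sylow
  obtain ⟨k, hk⟩ := MulAction.exists_smul_eq (St F) S0 R
  let ι : ↥(St F) →* G := ι₀.comp (MulAut.conj k).toMonoidHom
  have hι : Function.Injective ι := hι₀.comp (MulAut.conj k).injective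
  have hrange : ∀ g, g ∈ Subgroup.centralizer ({α} : Set G) ↔ ∃ s, ι s = g := by
    intro g
    constructor
    · intro hg
      refine ⟨(MulAut.conj k).symm (e ⟨g, hg⟩), ?_⟩
      simp [ι, ι₀, mul_assoc]
    · rintro ⟨s, rfl⟩
      exact (e.symm _).2
  have hPle : (P : Subgroup G) ≤ U0s.map ι := by
    intro g hg
    obtain ⟨s, hs⟩ := (hrange g).1 (hP hg)
    refine ⟨s, ?_, hs⟩
    have h1 : MulAut.conj k s ∈ (R : Subgroup (St F)) := hR (by
      show ι₀ _ ∈ (P : Subgroup G)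
      exact hs.symm ▸ hg)
    rw [← hk, Sylow.coe_subgroup_smul, hS0, Subgroup.mem_pointwise_smul_iff_inv_smul_mem] at h1
    simpa [MulAut.smul_def, mul_assoc] using h1
  have hPeq : U0s.map ι = P := P.is_maximal' ((IsPGroup.of_card hU0s).map ι) hPle
  have hPcard : Nat.card (P : Subgroup G) = p ^ (4 * n) := by
    rw [← hPeq, Subgroup.card_map_of_injective hι, hU0s]
  have hPmem : ∀ {s : St F}, (s : Sp4 F) ∈ U0 F → ι s ∈ (P : Subgroup G) := fun {s} hs => by
    rw [← hPeq]; exact ⟨s, hs, rfl⟩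
  have hPex : ∀ g ∈ (P : Subgroup G), ∃ s : St F, (s : Sp4 F) ∈ U0 F ∧ ι s = g := fun g hg => by
    rw [← hPeq] at hg; obtain ⟨s, hs, he⟩ := hg; exact ⟨s, hs, he⟩
  -- coordinates on `M`
  let ψ : V F → G := fun v => ι ⟨up v, up_mem_St v⟩
  have hψ : Function.Injective ψ := fun v w h => up_inj (congrArg Subtype.val (hι h))
  have hψadd : ∀ v w, ψ (v + w) = ψ v * ψ w := fun v w => by
    show ι _ = ι _ * ι _
    rw [← map_mul]
    exact congrArg ι (Subtype.ext (up_add v w))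
  have hψ0 : ψ 0 = 1 := by
    show ι _ = 1
    rw [show (⟨up (0 : V F), up_mem_St 0⟩ : St F) = 1 from Subtype.ext up_zero, map_one]
  have hMψ : ∀ m ∈ M, ∃ v, ψ v = m := by
    let A : Subgroup (Sp4 F) := (M.comap ι).map (St F).subtype
    have hMι : M ≤ ι.range := fun m hm => (hrange m).1 (hP (hMP hm))
    have hA : Nat.card A = p ^ (3 * n) := by
      rw [Subgroup.card_map_of_injective (Subgroup.subtype_injective _), ← hMcard]
      conv_rhs => rw [← Subgroup.map_comap_eq_self hMι, Subgroup.card_map_of_injective hι]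
    have hAU : A ≤ U0 F := by
      rintro _ ⟨s, hs, rfl⟩
      obtain ⟨t, ht, he⟩ := hPex _ (hMP hs)
      rw [← hι he]
      exact ht
    have hAc : ∀ a ∈ A, ∀ b ∈ A, a * b = b * a := by
      rintro _ ⟨s, hs, rfl⟩ _ ⟨t, ht, rfl⟩
      have h := congrArg Subtype.val (hMc.is_comm.comm (⟨ι s, hs⟩ : M) ⟨ι t, ht⟩)
      exact congrArg Subtype.val (hι (show ι (s * t) = ι (t * s) by rw [map_mul, map_mul]; exact h))
    have hAlt : Nat.card F ^ 2 < Nat.card A := by
      rw [hA, hF, ← pow_mul]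
      exact Nat.pow_lt_pow_right hpr.one_lt (by omega)
    intro m hm
    obtain ⟨s, rfl⟩ := hMι hm
    obtain ⟨v, hv⟩ := le_up h2 hAU hAc hAlt s.1 ⟨s, hm, rfl⟩
    exact ⟨v, congrArg ι (Subtype.ext hv.symm)⟩
  have hψM : ∀ v, ψ v ∈ M := by
    choose f hf using fun m : M => hMψ m m.2
    have hfinj : Function.Injective f := fun a b h => Subtype.ext (by rw [← hf a, ← hf b, h])
    have hb' := hfinj.bijective_of_nat_card_le (by
      rw [Nat.card_prod, Nat.card_prod, hMcard, hF, ← pow_add, ← pow_add]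
      exact le_of_eq (congrArg (p ^ ·) (by ring)))
    intro v
    obtain ⟨m, rfl⟩ := hb'.2 v
    rw [hf]; exact m.2
  -- the first line has centraliser `C(α)`
  have hline : ∀ z : F, z ≠ 0 → ∀ g : G, g * ψ (z, 0, 0) = ψ (z, 0, 0) * g → ∃ s, ι s = g := by
    intro z hz g hg
    rw [← hrange, ← hb (ψ (z, 0, 0)) ((hrange _).2 ⟨_, rfl⟩)
      (fun h => hz (by
        have := hψ (h.trans hψ0.symm)
        exact congrArg Prod.fst this))
      (fun c hc => by
        obtain ⟨s, rfl⟩ := (hrange c).1 hc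
        show ι s * ι _ = ι _ * ι s
        rw [← map_mul, ← map_mul]
        exact congrArg ι (Subtype.ext (St_comm s.2 z))),
      Subgroup.mem_centralizer_singleton_iff]
    exact hg
  -- the normaliser and its action
  let N : Subgroup G := Subgroup.normalizer (M : Set G)
  have hact : ∀ (g : N) (v : V F), ∃ w, (g : G) * ψ v * (g : G)⁻¹ = ψ w := fun g v => by
    obtain ⟨w, hw⟩ := hMψ _ ((Subgroup.mem_normalizer_iff.1 g.2 (ψ v)).1 (hψM v))
    exact ⟨w, hw.symm⟩
  choose f hf using hact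
  have hf1 : ∀ v, f 1 v = v := fun v => hψ (by rw [← hf]; simp)
  have hfm : ∀ g h v, f (g * h) v = f g (f h v) := fun g h v => hψ (by
    rw [← hf, ← hf, ← hf, Subgroup.coe_mul]; group)
  let ρ : N →* Equiv.Perm (V F) :=
    { toFun := fun g =>
        { toFun := f g
          invFun := f g⁻¹
          left_inv := fun v => by rw [← hfm, inv_mul_cancel, hf1]
          right_inv := fun v => by rw [← hfm, mul_inv_cancel, hf1] }
      map_one' := Equiv.ext hf1
      map_mul' := fun g h => Equiv.ext (hfm g h) }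
  have hρ : ∀ (g : N) v, (g : G) * ψ v * (g : G)⁻¹ = ψ (ρ g v) := hf
  have hcj : ∀ (A : GL (Fin 2) F) (w v : V F) (s : St F), (s : Sp4 F) = Dm A * up w →
      ι s * ψ v * (ι s)⁻¹ = ψ (Ad A v) := by
    intro A w v s hs
    show ι s * ι _ * (ι s)⁻¹ = ι _
    rw [← map_inv, ← map_mul, ← map_mul]
    refine congrArg ι (Subtype.ext ?_)
    rw [Subgroup.coe_mul, Subgroup.coe_mul, Subgroup.coe_inv, hs]
    exact conj_up A v w
  have hsN : ∀ (A : GL (Fin 2) F) (w : V F) (s : St F), (s : Sp4 F) = Dm A * up w → ι s ∈ N := by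
    intro A w s hs
    refine Subgroup.mem_normalizer_iff.2 fun m => ⟨fun hm => ?_, fun hm => ?_⟩
    · obtain ⟨v, rfl⟩ := hMψ m hm
      rw [hcj A w v s hs]; exact hψM _
    · obtain ⟨v, hv⟩ := hMψ _ hm
      have h := hcj A w (Ad A⁻¹ v) s hs
      have e' : Ad A (Ad A⁻¹ v) = v := by
        rw [← Equiv.Perm.mul_apply, ← map_mul, mul_inv_cancel, map_one, Equiv.Perm.one_apply]
      rw [e', hv] at h
      rw [← mul_left_cancel (mul_right_cancel h)]
      exact hψM _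
  have hρs : ∀ (A : GL (Fin 2) F) (w : V F) (s : St F) (hs : (s : Sp4 F) = Dm A * up w),
      ρ ⟨ι s, hsN A w s hs⟩ = Ad A := by
    intro A w s hs
    exact Equiv.ext fun v => hψ (by rw [← hρ]; exact hcj A w v s hs)
  have hfix : ∀ (g : N) (z : F), z ≠ 0 → ρ g (z, 0, 0) = (z, 0, 0) →
      ∃ r a w, ∃ s : St F, ι s = g ∧ (s : Sp4 F) = Dm (gU r * gD a) * up w ∧ ρ g = U r * D a := by
    intro g z hz hg
    have h := hρ g (z, 0, 0)
    rw [hg, mul_inv_eq_iff_eq_mul] at h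
    obtain ⟨s, hs⟩ := hline z hz g h
    have h' := hρ g (1, 0, 1)
    rw [← hs, mul_inv_eq_iff_eq_mul] at h'
    have h'' : (s : Sp4 F) * up (1, 0, 1) = up (ρ g (1, 0, 1)) * (s : Sp4 F) :=
      congrArg Subtype.val (hι (show ι (s * (⟨up (1, 0, 1), up_mem_St _⟩ : St F)) =
        ι ((⟨up (ρ g (1, 0, 1)), up_mem_St _⟩ : St F) * s) by rw [map_mul, map_mul]; exact h'))
    obtain ⟨r, a, w, hw⟩ := exists_form s.2 h''
    refine ⟨r, a, w, s, hs, hw, ?_⟩
    rw [show g = ⟨ι s, hsN _ w s hw⟩ from Subtype.ext hs.symm, hρs _ w s hw, map_mul]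
    rfl
  have hker : ∀ g : N, g ∈ ρ.ker ↔ (g : G) ∈ M := by
    intro g
    constructor
    · intro hg
      rw [MonoidHom.mem_ker] at hg
      obtain ⟨r, a, w, s, hs, hw, hd⟩ := hfix g 1 one_ne_zero (by rw [hg]; rfl)
      rw [hg] at hd
      obtain ⟨rfl, rfl⟩ := Hyp.UD_inj h2 (hd.symm.trans (show (1 : Equiv.Perm (V F)) = U 0 * D 1 by
        rw [U_zero, D_one, one_mul]))
      rw [← hs, show s = ⟨up w, up_mem_St w⟩ from Subtype.ext (by
        rw [hw, gU_zero, gD_one, one_mul, map_one, one_mul])]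
      exact hψM w
    · intro hg
      rw [MonoidHom.mem_ker]
      refine Equiv.ext fun v => hψ ?_
      rw [← hρ, mul_inv_eq_iff_eq_mul]
      exact congrArg Subtype.val (hMc.is_comm.comm (⟨_, hg⟩ : M) ⟨_, hψM v⟩)
  have hPN : (P : Subgroup G) ≤ N := by
    intro g hg
    obtain ⟨s, ⟨r, w, hw⟩, rfl⟩ := hPex g hg
    exact hsN _ w s hw
  let J : Subgroup (Equiv.Perm (V F)) := ρ.range
  have hUg : ∀ r, (⟨ι ⟨Dm (gU r), gU_mem_St r⟩,
      hsN (gU r) 0 _ (by rw [up_zero, mul_one])⟩ : N) ∈ ρ ⁻¹' {U r} := fun r =>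
    hρs (gU r) 0 _ (by rw [up_zero, mul_one])
  have H : Hyp p n J := by
    refine ⟨hpr, hp, hF, by rw [hF]; exact hq4, ?_, ?_, ?_, ?_, ?_⟩
    · rintro _ ⟨g, rfl⟩ v w
      refine hψ ?_
      rw [hψadd, ← hρ, ← hρ, ← hρ, hψadd]
      group
    · intro r
      exact ⟨_, hUg r⟩
    · intro a
      exact ⟨_, hρs (gD a) 0 ⟨Dm (gD a), gD_mem_St a⟩ (by rw [up_zero, mul_one])⟩
    · rintro _ ⟨g, rfl⟩ z hz hg
      obtain ⟨r, a, -, -, -, -, hd⟩ := hfix g z hz hg
      exact ⟨r, a, hd⟩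
    · intro hd
      have h1 := Subgroup.index_mul_card ρ.ker
      rw [Subgroup.index_ker] at h1
      have h3 : Nat.card ρ.ker = p ^ (3 * n) := by
        rw [← hMcard]
        exact Nat.card_congr
          { toFun := fun g => ⟨g.1.1, (hker g.1).1 g.2⟩
            invFun := fun m => ⟨⟨m.1, Subgroup.le_normalizer m.2⟩, (hker _).2 m.2⟩
            left_inv := fun g => rfl
            right_inv := fun m => rfl }
      have h4 : p ^ (4 * n + 1) ∣ Nat.card G := by
        refine Dvd.dvd.trans ?_ (Subgroup.card_subgroup_dvd_card N)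
        rw [← h1, h3, show 4 * n + 1 = (n + 1) + 3 * n by ring, pow_add]
        exact Nat.mul_dvd_mul_right hd _
      obtain ⟨K, hK⟩ := Sylow.exists_subgroup_card_pow_prime p h4
      obtain ⟨S, hS⟩ := (IsPGroup.of_card hK).exists_le_sylow
      have h5 := Subgroup.card_le_of_le hS
      have h6 : Nat.card (S : Subgroup G) = p ^ (4 * n) := by
        obtain ⟨c, hcS⟩ := MulAction.exists_smul_eq G P S
        rw [← hcS, Sylow.coe_subgroup_smul, ← hPcard]
        exact (Nat.card_congr (Subgroup.equivSMul (MulAut.conj c) _).toEquiv).symm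
      rw [hK, h6] at h5
      have := Nat.pow_lt_pow_right hpr.one_lt (show 4 * n < 4 * n + 1 by omega)
      omega
  haveI := H.finite
  let P' : Sylow p N := P.subtype hPN
  have hPU : ∀ (g : N), (g : G) ∈ (P : Subgroup G) ↔ ∃ r, ρ g = U r := by
    intro g
    constructor
    · intro hg
      obtain ⟨s, ⟨r, w, hw⟩, hs⟩ := hPex _ hg
      refine ⟨r, ?_⟩
      rw [show g = ⟨ι s, hsN _ w s hw⟩ from Subtype.ext hs.symm, hρs _ w s hw]
      rfl
    · rintro ⟨r, hr⟩
      have hk : g * (⟨ι ⟨Dm (gU r), gU_mem_St r⟩,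
          hsN (gU r) 0 _ (by rw [up_zero, mul_one])⟩ : N)⁻¹ ∈ ρ.ker := by
        rw [MonoidHom.mem_ker, map_mul, map_inv, hr, hUg r, mul_inv_cancel]
      have h := (P : Subgroup G).mul_mem (hMP ((hker _).1 hk))
        (hPmem (s := ⟨Dm (gU r), gU_mem_St r⟩) (gU_mem_U0 r))
      simpa [mul_assoc] using h
  have hmove : ∃ j ∈ J, (j : V F → V F) '' Zl F ≠ Zl F := by
    by_contra hno
    push Not at hno
    obtain ⟨Q, R', hQR⟩ := hnc
    refine hQR ?_
    have hnorm : (P' : Subgroup N).Normal := by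
      refine ⟨fun x hx g => ?_⟩
      rw [Sylow.coe_subtype, Subgroup.mem_subgroupOf] at hx ⊢
      obtain ⟨r, hr⟩ := (hPU x).1 hx
      obtain ⟨s, hs⟩ := H.conj_U ⟨g, rfl⟩ (hno _ ⟨g, rfl⟩) r
      refine (hPU (g * x * g⁻¹)).2 ⟨s, ?_⟩
      rw [map_mul, map_mul, map_inv, hr, hs, mul_inv_cancel_right]
    haveI := Sylow.unique_of_normal P' hnorm
    exact Subsingleton.elim Q R'
  have hcent : ∀ u : G, orderOf u = p → ∀ Pu : Sylow p G, u ∈ (Pu : Subgroup G) →
      (∀ y ∈ (Pu : Subgroup G), y * u = u * y) →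
      ∃ a z, z ≠ (0 : F) ∧ a * u * a⁻¹ = ψ (z, 0, 0) := by
    intro u hu Pu huP huc
    obtain ⟨a, ha⟩ := MulAction.exists_smul_eq G Pu P
    have hmem : ∀ y, y ∈ (P : Subgroup G) ↔ a⁻¹ * y * a ∈ (Pu : Subgroup G) := fun y => by
      rw [← ha, Sylow.coe_subgroup_smul, Subgroup.mem_pointwise_smul_iff_inv_smul_mem]
      simp [MulAut.smul_def, mul_assoc]
    obtain ⟨s, hs, hsu⟩ := hPex (a * u * a⁻¹) ((hmem _).2 (by simpa [mul_assoc] using huP))
    obtain ⟨z, hz⟩ := center_U0 h2 hs (fun w hw => by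
      have h := huc _ ((hmem _).1 (hPmem (s := ⟨w, U0_le_St hw⟩) hw))
      refine congrArg Subtype.val (hι (show ι (s * ⟨w, U0_le_St hw⟩) = ι (⟨w, U0_le_St hw⟩ * s) from ?_))
      rw [map_mul, map_mul, hsu]
      generalize ι ⟨w, U0_le_St hw⟩ = y at h ⊢
      calc a * u * a⁻¹ * y = a * (u * (a⁻¹ * y * a)) * a⁻¹ := by group
        _ = a * (a⁻¹ * y * a * u) * a⁻¹ := by rw [h]
        _ = y * (a * u * a⁻¹) := by group)
    refine ⟨a, z, ?_, hsu.symm.trans (congrArg ι (Subtype.ext hz))⟩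
    rintro rfl
    rw [show s = 1 from Subtype.ext (hz.trans (by
      rw [show ((0, 0, 0) : V F) = 0 from rfl, up_zero]; rfl)), map_one] at hsu
    rw [conj_eq_one_iff.1 hsu.symm, orderOf_one] at hu
    exact hpr.ne_one hu.symm
  have htwo : ∃ z₁ z₂ : F, z₁ ≠ 0 ∧ z₂ ≠ 0 ∧ ∀ j ∈ J, j (z₁, 0, 0) ≠ (z₂, 0, 0) := by
    obtain ⟨u, v, Pu, Pv, hu, hv, huP, huc, hvP, hvc, hne⟩ := hc
    obtain ⟨a, z₁, hz₁, ha⟩ := hcent u hu Pu huP huc
    obtain ⟨b, z₂, hz₂, hb'⟩ := hcent v hv Pv hvP hvc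
    refine ⟨z₁, z₂, hz₁, hz₂, ?_⟩
    rintro _ ⟨g, rfl⟩ h
    have h1 := hρ g (z₁, 0, 0)
    rw [h, ← ha, ← hb'] at h1
    refine hne (b⁻¹ * g * a) ?_
    calc b⁻¹ * g * a * u * (b⁻¹ * g * a)⁻¹ = b⁻¹ * (g * (a * u * a⁻¹) * (g : G)⁻¹) * b := by group
      _ = v := by rw [h1]; group
  obtain ⟨eJ⟩ := H.classify hmove htwo
  obtain ⟨eR⟩ := range_equiv (F := F) (by rw [hF]; exact hq4)
  -- the complement
  haveI : IsMulCommutative ρ.ker := ⟨⟨fun a b => Subtype.ext (Subtype.ext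
    (show ((a : N) : G) * ((b : N) : G) = ((b : N) : G) * ((a : N) : G) from congrArg Subtype.val
      (hMc.is_comm.comm (⟨_, (hker _).1 a.2⟩ : M) ⟨_, (hker _).1 b.2⟩)))⟩⟩
  let aHom : Multiplicative F →* N :=
    { toFun := fun r => ⟨ι ⟨Dm (gU (Multiplicative.toAdd r)), gU_mem_St _⟩,
        hsN (gU (Multiplicative.toAdd r)) 0 _ (by rw [up_zero, mul_one])⟩
      map_one' := Subtype.ext ((congrArg ι (Subtype.ext
        (show Dm (gU (0 : F)) = ((1 : St F) : Sp4 F) by rw [gU_zero, map_one]; rfl))).trans (map_one ι))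
      map_mul' := fun r s => Subtype.ext (by
        show ι _ = ι _ * ι _
        rw [← map_mul]
        exact congrArg ι (Subtype.ext (by
          show Dm _ = Dm _ * Dm _
          rw [← map_mul, gU_mul, toAdd_mul]))) }
  have hA1 : aHom.range ⊓ ρ.ker = ⊥ := by
    rw [eq_bot_iff]
    rintro _ ⟨⟨r, rfl⟩, hr⟩
    have h := hUg (Multiplicative.toAdd r)
    have h' : U (Multiplicative.toAdd r) * D (1 : Fˣ) = U 0 * D 1 := by
      rw [← show ρ (aHom r) = U _ from h, MonoidHom.mem_ker.1 hr, U_zero, D_one, one_mul]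
    rw [Subgroup.mem_bot, show r = 1 from Multiplicative.toAdd.injective (Hyp.UD_inj h2 h').1, map_one]
  have hKP : ρ.ker ≤ (P' : Subgroup N) := by
    intro g hg
    rw [Sylow.coe_subtype, Subgroup.mem_subgroupOf]
    exact hMP ((hker g).1 hg)
  have hA2 : ρ.ker ⊔ aHom.range = (P' : Subgroup N) := by
    refine le_antisymm (sup_le hKP ?_) ?_
    · rintro _ ⟨r, rfl⟩
      rw [Sylow.coe_subtype, Subgroup.mem_subgroupOf]
      exact hPmem (s := ⟨Dm (gU _), gU_mem_St _⟩) (gU_mem_U0 _)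
    · intro g hg
      rw [Sylow.coe_subtype, Subgroup.mem_subgroupOf] at hg
      obtain ⟨r, hr⟩ := (hPU g).1 hg
      have hk : g * (aHom (Multiplicative.ofAdd r))⁻¹ ∈ ρ.ker := by
        rw [MonoidHom.mem_ker, map_mul, map_inv, hr,
          show ρ (aHom (Multiplicative.ofAdd r)) = U r from hUg r, mul_inv_cancel]
      have h := Subgroup.mul_mem _ (Subgroup.mem_sup_left (T := aHom.range) hk)
        (Subgroup.mem_sup_right (S := ρ.ker) ⟨Multiplicative.ofAdd r, rfl⟩)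
      rwa [inv_mul_cancel_right] at h
  have hcop : (Nat.card ρ.ker).Coprime (P' : Subgroup N).index := by
    obtain ⟨m, hm⟩ := IsPGroup.iff_card.1 (P'.isPGroup'.to_le hKP)
    rw [hm]
    exact Nat.Coprime.pow_left _ (hpr.coprime_iff_not_dvd.2 P'.not_dvd_index)
  obtain ⟨Hc, hHc⟩ := Cores.Gaschutz.exists_complement hKP hcop hA1 hA2
  have hbij : Function.Bijective (ρ.rangeRestrict.comp Hc.subtype) := by
    constructor
    · rw [injective_iff_map_eq_one]
      intro x hx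
      have h1 : (x : N) ∈ ρ.ker := MonoidHom.mem_ker.2 (congrArg Subtype.val hx)
      exact Subtype.ext (Subgroup.disjoint_def.1 hHc.disjoint h1 x.2)
    · rintro ⟨_, g, rfl⟩
      obtain ⟨⟨k', h'⟩, he, -⟩ := hHc.existsUnique g
      refine ⟨h', Subtype.ext ?_⟩
      show ρ (h' : N) = ρ g
      rw [← show (k' : N) * h' = g from he, map_mul, MonoidHom.mem_ker.1 k'.2, one_mul]
  refine ⟨Hc.map N.subtype, Subgroup.map_subtype_le _, ?_, ?_, ⟨?_⟩⟩
  · refine le_antisymm (sup_le Subgroup.le_normalizer (Subgroup.map_subtype_le _)) fun g hg => ?_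
    obtain ⟨⟨k', h'⟩, he, -⟩ := hHc.existsUnique ⟨g, hg⟩
    rw [← show ((k' : N) : G) * ((h' : N) : G) = g from congrArg Subtype.val he]
    exact Subgroup.mul_mem _ (Subgroup.mem_sup_left ((hker _).1 k'.2))
      (Subgroup.mem_sup_right ⟨h', h'.2, rfl⟩)
  · rw [eq_bot_iff]
    rintro _ ⟨hm, x, hx, rfl⟩
    rw [Subgroup.mem_bot]
    exact congrArg Subtype.val (Subgroup.disjoint_def.1 hHc.disjoint ((hker x).2 hm) hx)
  · refine ((Hc.equivMapOfInjective _ (Subgroup.subtype_injective N)).symm.trans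
      ((MulEquiv.ofBijective _ hbij).trans (eJ.trans eR))).trans ?_
    exact MulEquiv.prodCongr (MulEquiv.refl _) (MulEquiv.cast (M := fun m => Multiplicative (ZMod m))
      (by rw [hF]))

end Cfsg.Agent.Lib.PSp4Local4
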